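import Cfsg.Agent.AutO.Main
import Cfsg.Agent.QuadF.Disc
import Cfsg.Agent.Orth.Order
import Cfsg.Agent.GLn.AutPerm

/-!
# The order of the automorphism group of `PΩ`
-/

set_option autoImplicit false

namespace CL.AutO

open QuadraticMap Module CL.Orth

section
variable {F V : Type*} [Field F] [AddCommGroup V] [Module F V] {Q : QuadraticForm F V}
variable [FiniteDimensional F V] [Finite F]

theorem card_mulAut_even (hQ : Q.polarBilin.Nondegenerate) (h5 : 5 ≤ finrank F V) {m : ℕ}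
    (hV : finrank F V = 2 * m) (hσ : ∀ σ : RingAut F, ∃ γ : Gam Q, γ.1.2 = σ) :
    Nat.card (MulAut (PE Q)) =
      (Phi Q).range.index * Nat.card (RingAut F) * Nat.card (O Q) := by
  obtain ⟨v, hv⟩ := exists_Q_ne_zero hQ (by omega)
  have h1 := card_Gam hv hσ ⊤ fun c => ⟨fun _ => ?_, fun _ => trivial⟩
  · have h2 := card_mulAut hQ h5
    rw [h1, Subgroup.card_top, Nat.card_units] at h2
    have h3 : 1 < Nat.card F := Finite.one_lt_card
    apply Nat.eq_of_mul_eq_mul_left (show 0 < Nat.card F - 1 by omega)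
    rw [h2]
    ring
  · obtain ⟨g, hg⟩ := QuadF.exists_equiv_of_type_eq hQ (QuadF.nondeg_smul hQ c.ne_zero) hV hV
      (by simp)
    exact ⟨g, hg⟩

theorem card_mulAut_odd (h2 : (2 : F) ≠ 0) (hQ : Q.polarBilin.Nondegenerate)
    (h5 : 5 ≤ finrank F V) (hV : Odd (finrank F V))
    (hσ : ∀ σ : RingAut F, ∃ γ : Gam Q, γ.1.2 = σ) :
    2 * Nat.card (MulAut (PE Q)) =
      (Phi Q).range.index * Nat.card (RingAut F) * Nat.card (O Q) := by
  obtain ⟨v, hv⟩ := exists_Q_ne_zero hQ (by omega)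
  have h1 := card_Gam hv hσ (powMonoidHom 2 : Fˣ →* Fˣ).range fun c => ⟨?_, ?_⟩
  · have h4 := card_mulAut hQ h5
    have h3 : 1 < Nat.card F := Finite.one_lt_card
    have h6 : 2 ∣ Nat.card F - 1 := by
      rcases card_mod_four_of_two_ne_zero h2 with h | h <;> omega
    rw [h1, IsCyclic.card_powMonoidHom_range, Nat.card_units, Nat.gcd_eq_right h6] at h4
    obtain ⟨k, hk⟩ := h6
    rw [hk, Nat.mul_div_cancel_left _ two_pos] at h4
    apply Nat.eq_of_mul_eq_mul_left (show 0 < k by omega)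
    linear_combination h4
  · rintro ⟨a, rfl⟩
    exact ⟨LinearEquiv.smulOfUnit a, fun v => by
      change Q ((a : F) • v) = _
      rw [Q_smul, powMonoidHom_apply, Units.val_pow_eq_pow_val, pow_two]⟩
  · rintro ⟨g, hg⟩
    obtain ⟨b, hb⟩ := QuadF.exists_orth_basis h2 Q
    have hp : ∀ x y, polar Q (g x) (g y) = c * polar Q x y := fun x y => by
      simp only [polar, ← map_add, hg]
      ring
    have h1 := QuadF.isSquare_prod_mul_prod h2 b (b.map g) hb fun i j hij => by
      rw [Basis.map_apply, Basis.map_apply, hp, hb i j hij, mul_zero]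
    simp only [Basis.map_apply, hg, Finset.prod_mul_distrib, Finset.prod_const, Finset.card_univ,
      Fintype.card_fin] at h1
    have h0 : ∏ i, Q (b i) ≠ 0 :=
      Finset.prod_ne_zero_iff.2 fun i _ => QuadF.map_ne_zero_of_orth_basis hQ b hb i
    obtain ⟨k, hk⟩ := hV
    have h3 : IsSquare (c : F) := by
      refine QuadF.isSquare_of_mul_of_ne_zero (a := (c ^ k * ∏ i, Q (b i)) ^ 2) (IsSquare.sq _)
        (pow_ne_zero _ (mul_ne_zero (pow_ne_zero _ c.ne_zero) h0)) ?_
      convert h1 using 1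
      generalize ∏ i, Q (b i) = P
      rw [hk]
      ring
    obtain ⟨a, ha⟩ := h3
    have ha0 : a ≠ 0 := by rintro rfl; exact c.ne_zero (by rw [ha, mul_zero])
    exact ⟨Units.mk0 a ha0, Units.ext (by simp [ha, pow_two])⟩

end

variable {F : Type*} [Field F] {ι : Type} [Fintype ι] [DecidableEq ι]

omit [Fintype ι] [DecidableEq ι] in
theorem exists_gam {Q : QuadraticForm F (ι → F)} (σ : RingAut F) (e : (ι → F) ≃ₗ[F] (ι → F))
    (h : ∀ x, Q (e (fun i => σ (x i))) = σ (Q x)) : ∃ γ : Gam Q, γ.1.2 = σ := by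
  refine ⟨⟨((Equiv.piCongrRight fun _ => σ.toEquiv).trans e.toEquiv, σ), fun u v => ?_,
    fun a v => ?_, 1, one_ne_zero, fun v => ?_⟩, rfl⟩
  · change e (fun i => σ (u i + v i)) = e (fun i => σ (u i)) + e (fun i => σ (v i))
    rw [← map_add]
    simp only [map_add σ]
    rfl
  · change e (fun i => σ (a * v i)) = σ a • e (fun i => σ (v i))
    rw [← map_smul]
    simp only [map_mul]
    rfl
  · rw [one_mul]
    exact h v

theorem card_mulAut_pomega [Finite F] {Q : QuadraticForm F (ι → F)}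
    (hQ : Q.polarBilin.Nondegenerate) (h5 : 5 ≤ finrank F (ι → F)) :
    Nat.card (MulAut (Cfsg.POmega F ⇑Q)) = Nat.card (MulAut (PE Q)) := by
  obtain ⟨u, hu0, hu⟩ := QuadF.exists_singular Q (by omega)
  exact Nat.card_congr (MulAut.congr ((pomegaEquiv Q).trans (quotCenterCongr
    (MulEquiv.subgroupCongr (E_eq_commutator_of_five hQ h5 hu hu0).symm)))).toEquiv

/-- `|O| = 2 |PΩ|`, `4 |PΩ|` or `8 |PΩ|`. -/
theorem card_O_eq [Finite F] {Q : QuadraticForm F (ι → F)}
    (hQ : Q.polarBilin.Nondegenerate) (h5 : 5 ≤ finrank F (ι → F)) {A B : Prop} [Decidable A]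
    [Decidable B] (hA : A ↔ (2 : F) = 0)
    (hB : (2 : F) ≠ 0 → (B ↔ negO Q ∈ commutator (O Q))) :
    Nat.card (O Q) = (if A then 2 else if B then 8 else 4) * Nat.card (Cfsg.POmega F ⇑Q) := by
  obtain ⟨u, hu0, hu⟩ := QuadF.exists_singular Q (by omega)
  have hT : Tame Q := tame_of_finrank_ne_four hQ (by omega)
  rw [← card_pomega_mul Q, card_center_commutator hQ hT hu hu0 (by omega)]
  by_cases h2 : (2 : F) = 0
  · rw [index_commutator_even h2 hQ hT (by omega), if_pos (hA.2 h2), if_neg (by simp [h2])]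
    ring
  · rw [index_commutator_odd h2 hQ (by omega), if_neg (hA.not.2 h2)]
    by_cases h : B
    · rw [if_pos h, if_pos ⟨h2, (hB h2).1 h⟩]
      ring
    · rw [if_neg h, if_neg fun h' => h ((hB h2).2 h'.2)]
      ring

theorem eq_two_iff (F : Type*) [Field F] (p : ℕ) [hp : Fact p.Prime] [CharP F p] :
    p = 2 ↔ (2 : F) = 0 := by
  constructor
  · rintro rfl
    simpa using CharP.cast_eq_zero F 2
  · intro h
    exact (Nat.prime_dvd_prime_iff_eq hp.out Nat.prime_two).1
      ((CharP.cast_eq_zero_iff F p 2).1 (by simpa using h))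

theorem even_half_iff {q : ℕ} (hq : q % 4 = 1 ∨ q % 4 = 3) (m : ℕ) :
    Even (m * (q - 1) / 2) ↔ q ^ m % 4 = 1 := by
  rcases hq with h | h
  · obtain ⟨k, hk⟩ : ∃ k, q - 1 = 2 * (2 * k) := ⟨q / 4, by omega⟩
    rw [hk, Nat.mul_left_comm, Nat.mul_div_cancel_left _ two_pos, Nat.pow_mod, h]
    simp
  · obtain ⟨k, hk⟩ : ∃ k, q - 1 = 2 * (2 * k + 1) := ⟨q / 4, by omega⟩
    rw [hk, Nat.mul_left_comm, Nat.mul_div_cancel_left _ two_pos, pow_mod_four m h]
    by_cases hm : Even m <;> simp [hm, Nat.even_mul]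

end CL.AutO
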