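import Cfsg.Agent.AutO.Rel
import Cfsg.Agent.GLn.FTPG

/-!
# An automorphism of `PΩ` permuting the Eichler groups is induced by a semilinear similarity
-/

set_option autoImplicit false

namespace CL.AutO

open QuadraticMap Module CL.Orth

variable {F V : Type*} [Field F] [AddCommGroup V] [Module F V] {Q : QuadraticForm F V}
variable [FiniteDimensional F V] [Finite F]

theorem mem_span_of_singular_perp (hQ : Q.polarBilin.Nondegenerate) (h7 : 7 ≤ finrank F V)
    {e f : V} (hef : IsHypPair Q e f) {w w₁ : V} (h1 : polar Q e w = 0) (h2 : polar Q f w = 0)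
    (h3 : polar Q e w₁ = 0) (h4 : polar Q f w₁ = 0)
    (h : ∀ u, Q u = 0 → u ≠ 0 → polar Q e u = 0 → polar Q f u = 0 → polar Q u w = 0 →
      polar Q u w₁ = 0) : w₁ ∈ Submodule.span F {w} := by
  set W := perp Q (Submodule.span F {e, f})
  have hW := IsHypPair.nondeg_perp hQ hef
  have hd := IsHypPair.finrank_perp hQ hef
  let x : W := ⟨w, mem_perp_pair.2 ⟨h1, h2⟩⟩
  let y : W := ⟨w₁, mem_perp_pair.2 ⟨h3, h4⟩⟩
  have hs := QuadF.span_singular_perp hW (by omega) x
  have hy : y ∈ Submodule.span F {x} := by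
    rw [← QuadF.perp_perp hW (Submodule.span F {x}), ← hs, QuadF.mem_perp_span]
    rintro u ⟨hu1, hu2⟩
    rw [QuadF.mem_perp_singleton] at hu1
    rw [QuadF.polar_restr] at hu1 ⊢
    by_cases hu0 : (u : V) = 0
    · rw [hu0, polar_zero_left]
    · exact h u hu2 hu0 (mem_perp_pair.1 u.2).1 (mem_perp_pair.1 u.2).2
        (by rw [polar_comm]; exact hu1)
  obtain ⟨c, hc⟩ := Submodule.mem_span_singleton.1 hy
  exact Submodule.mem_span_singleton.2 ⟨c, congrArg Subtype.val hc⟩

theorem eq_of_eE_eq (hQ : Q.polarBilin.Nondegenerate) (h3 : 3 ≤ finrank F V) {e f : V}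
    (hef : IsHypPair Q e f) {w w' : V} (h1 : polar Q e w = 0) (h2 : polar Q f w = 0)
    (h1' : polar Q e w' = 0) (h2' : polar Q f w' = 0)
    (h : (eE Q e w : PE Q) = eE Q e w') : w = w' := by
  obtain ⟨c, hc⟩ := Submodule.mem_span_singleton.1
    ((eE_eq_iff hQ hef.1 hef.ne_zero h1 h1').1 (eE_eq_of_mk_eq hQ h3 h))
  have := congrArg (polar Q f) hc
  qsimp [hef.pol', h2, h2'] at this
  rw [mul_one, sub_self] at this
  rw [this, zero_smul] at hc
  exact sub_eq_zero.1 hc.symm

omit [FiniteDimensional F V] [Finite F] in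
theorem eE_proj (e f w : V) : eE Q e (w - polar Q f w • e) = eE Q e w := by
  rw [sub_eq_add_neg, ← neg_smul]
  exact Subtype.ext (eich_add_smul_self e w _)

/-- The additive map between the orthogonal complements of two hyperbolic pairs. -/
theorem exists_theta (hQ : Q.polarBilin.Nondegenerate) (h3 : 3 ≤ finrank F V)
    {α : MulAut (PE Q)} {e f e' f' : V} (hef : IsHypPair Q e f) (hef' : IsHypPair Q e' f')
    (he : Rel α e e') :
    ∃ θ : perp Q (Submodule.span F {e, f}) →+ V, ∀ w, polar Q e' (θ w) = 0 ∧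
      polar Q f' (θ w) = 0 ∧ α (eE Q e w : PE Q) = eE Q e' (θ w) := by
  have : ∀ w : perp Q (Submodule.span F {e, f}), ∃ w', polar Q e' w' = 0 ∧
      polar Q f' w' = 0 ∧ α (eE Q e w : PE Q) = eE Q e' w' := by
    intro w
    obtain ⟨w', hw', e1⟩ := mem_PQ.1 ((he.iff _).2 (mk_eE_mem_PQ e w))
    refine ⟨w' - polar Q f' w' • e', by qsimp [hw', hef'.1]; ring, by qsimp [hef'.pol']; ring, ?_⟩
    rw [eE_proj, e1]
  choose θ h1 h2 h4 using this
  refine ⟨AddMonoidHom.mk' θ fun a b => ?_, fun w => ⟨h1 w, h2 w, h4 w⟩⟩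
  refine eq_of_eE_eq hQ h3 hef' (h1 _) (h2 _) (by qsimp [h1]; ring) (by qsimp [h2]; ring) ?_
  rw [← h4, eE_add hef'.1 (h1 a) (h1 b), QuotientGroup.mk_mul, ← h4, ← h4, ← map_mul,
    ← QuotientGroup.mk_mul, ← eE_add hef.1 (mem_perp_pair.1 a.2).1 (mem_perp_pair.1 b.2).1]
  rfl

theorem mem_range_Phi_of_rel (hQ : Q.polarBilin.Nondegenerate) (h7 : 7 ≤ finrank F V)
    {α : MulAut (PE Q)} {e e' : V} (he : Rel α e e') : α ∈ (Phi Q).range := by
  have h3 : 3 ≤ finrank F V := by omega
  obtain ⟨f, hf0, hf1⟩ := exists_hyp_partner' hQ he.sing he.ne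
  have hef : IsHypPair Q e f := ⟨he.sing, hf0, hf1⟩
  obtain ⟨f'', hf''⟩ := he.total hQ h3 hf0 hef.symm.ne_zero
  have hne : polar Q e' f'' ≠ 0 := (he.perp hQ h3 hf'').not.2 (by rw [hf1]; exact one_ne_zero)
  have hef' := isHypPair_inv_smul he.sing' hf''.sing' hne
  have hf := hf''.smul_right (inv_ne_zero hne)
  generalize (polar Q e' f'')⁻¹ • f'' = f' at hef' hf
  clear hne hf'' f''
  have hth := exists_theta hQ h3 hef hef' he
  set W := perp Q (Submodule.span F {e, f}) with hWdef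
  obtain ⟨θ, hθ⟩ := hth
  have hWe : ∀ w : W, polar Q e w = 0 := fun w => (mem_perp_pair.1 w.2).1
  have hWf : ∀ w : W, polar Q f w = 0 := fun w => (mem_perp_pair.1 w.2).2
  have hθe : ∀ w, polar Q e' (θ w) = 0 := fun w => (hθ w).1
  have hθf : ∀ w, polar Q f' (θ w) = 0 := fun w => (hθ w).2.1
  -- the singular vectors opposite to `e`
  have hz : ∀ w : W, Rel α (f + w - Q w • e) (f' + θ w - Q (θ w) • e') := by
    intro w
    have := hf.conj (hθ w).2.2
    rwa [eE_val, eE_val, eich_apply hef.1 (hWe w), eich_apply hef'.1 (hθe w), hef.3, hef'.3,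
      polar_comm Q w f, hWf, polar_comm Q (θ w) f', hθf, one_smul, one_smul, zero_smul, zero_smul,
      sub_zero, sub_zero, mul_one, mul_one] at this
  have hQ0 : ∀ w : W, Q (θ w) = 0 ↔ Q w = 0 := by
    intro w
    have := hf.perp hQ h3 (hz w)
    qsimp [hef.2, hef'.2, hWf, hθf, hef.pol', hef'.pol'] at this
    simpa using this
  have hrel : ∀ u u', Rel α u u' → polar Q e u = 0 → polar Q f u = 0 → ∀ w : W,
      (polar Q u' (θ w) = 0 ↔ polar Q u w = 0) := by
    intro u u' hu h1 h2 w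
    have h1' := (he.perp hQ h3 hu).2 h1
    have h2' := (hf.perp hQ h3 hu).2 h2
    have := hu.perp hQ h3 (hz w)
    qsimp [polar_comm Q u f, polar_comm Q u e, polar_comm Q u' f', polar_comm Q u' e', h1, h2,
      h1', h2'] at this
    simpa using this
  have hback : ∀ u', Q u' = 0 → u' ≠ 0 → polar Q e' u' = 0 → polar Q f' u' = 0 →
      ∃ u, Rel α u u' ∧ polar Q e u = 0 ∧ polar Q f u = 0 := by
    intro u' hu' hu0 h1 h2
    obtain ⟨u, hu⟩ := he.symm.total hQ h3 hu' hu0
    have hu := hu.symm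
    rw [inv_inv] at hu
    exact ⟨u, hu, (he.perp hQ h3 hu).1 h1, (hf.perp hQ h3 hu).1 h2⟩
  have hinj : ∀ w : W, θ w = 0 → w = 0 := by
    intro w hw
    refine Subtype.ext (eq_of_eE_eq hQ h3 hef (hWe w) (hWf w) (hWe 0) (hWf 0) (α.injective ?_))
    rw [(hθ w).2.2, (hθ 0).2.2, hw, map_zero]
  have hW := IsHypPair.nondeg_perp hQ hef
  have hd := IsHypPair.finrank_perp hQ hef
  rw [← hWdef] at hd
  obtain ⟨x, hx0, hx⟩ := QuadF.exists_singular (QuadF.restr Q W) (by omega)
  obtain ⟨y, hy, hxy⟩ := exists_hyp_partner' hW hx hx0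
  rw [QuadF.restr_apply] at hx hy
  rw [QuadF.polar_restr] at hxy
  obtain ⟨σ₀, hσ₀⟩ := GLn.exists_ringHom_of_additive (K := F) (L := F) θ
    (fun c w => mem_span_of_singular_perp hQ h7 hef' (hθe _) (hθf _) (hθe _) (hθf _)
      fun u' hu' hu0 h1 h2 h4 => by
        obtain ⟨u, hu, h5, h6⟩ := hback u' hu' hu0 h1 h2
        rw [hrel u u' hu h5 h6] at h4 ⊢
        rw [Submodule.coe_smul, polar_smul_right', h4, mul_zero])
    (fun a b hab => by
      have : (b : V) ∈ Submodule.span F {(a : V)} :=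
        mem_span_of_singular_perp hQ h7 hef (hWe _) (hWf _) (hWe _) (hWf _)
          fun u hu hu0 h1 h2 h4 => by
            obtain ⟨u', hu'⟩ := he.total hQ h3 hu hu0
            obtain ⟨c, hc⟩ := Submodule.mem_span_singleton.1 hab
            rw [← hrel u u' hu' h1 h2] at h4 ⊢
            rw [← hc, polar_smul_right', h4, mul_zero]
      obtain ⟨c, hc⟩ := Submodule.mem_span_singleton.1 this
      exact Submodule.mem_span_singleton.2 ⟨c, Subtype.ext hc⟩)
    ⟨x, y, GLn.ind2_iff.2 ⟨hx0, fun h => by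
      obtain ⟨c, hc⟩ := Submodule.mem_span_singleton.1 h
      rw [← hc, Submodule.coe_smul, polar_smul_right', polar_self', hx] at hxy
      simp at hxy⟩⟩
  let σ : RingAut F := RingEquiv.ofBijective σ₀ (Finite.injective_iff_bijective.1 σ₀.injective)
  have hσ : ∀ (c : F) (w : W), θ (c • w) = σ c • θ w := hσ₀
  have hsing : ∀ u w : W, Q u = 0 → polar Q (u : V) w = 0 → polar Q (θ u) (θ w) = 0 := by
    intro u w hu huw
    by_cases hu0 : (u : V) = 0
    · rw [show u = 0 from Subtype.ext hu0, map_zero, polar_zero_left]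
    obtain ⟨u', hu'⟩ := he.total hQ h3 hu hu0
    have : θ u ∈ Submodule.span F {u'} :=
      mem_span_of_singular_perp hQ h7 hef' ((he.perp hQ h3 hu').2 (hWe u))
        ((hf.perp hQ h3 hu').2 (hWf u)) (hθe _) (hθf _) fun s' hs' hs0 h1 h2 h4 => by
          obtain ⟨s, hs, h5, h6⟩ := hback s' hs' hs0 h1 h2
          rw [hrel s s' hs h5 h6, ← hs.perp hQ h3 hu']
          exact h4
    obtain ⟨c, hc⟩ := Submodule.mem_span_singleton.1 this
    rw [← hc, polar_smul_left', (hrel u u' hu' (hWe u) (hWf u) w).2 huw, mul_zero]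
  have hθx := (hQ0 x).2 hx
  have hθy := (hQ0 y).2 hy
  obtain ⟨c, hc⟩ : ∃ c, c = polar Q (θ x) (θ y) := ⟨_, rfl⟩
  have hc0 : c ≠ 0 := by
    intro h
    have := (hQ0 (x + y)).1 (by rw [map_add, Q_add, hθx, hθy, ← hc, h]; ring)
    rw [Submodule.coe_add, Q_add, hx, hy, hxy] at this
    simp at this
  have hQ1 : ∀ z : W, polar Q (x : V) z = 0 → polar Q (y : V) z = 0 → Q (θ z) = c * σ (Q z) := by
    intro z h1 h2
    have := (hQ0 (z + x - Q z • y)).2 (by
      push_cast
      qsimp [hx, hy, hxy, polar_comm Q (z : V) x, polar_comm Q (z : V) y, h1, h2]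
      ring)
    rw [map_sub, map_add, hσ] at this
    qsimp [hθx, hθy, ← hc, polar_comm Q (θ z) (θ x), polar_comm Q (θ z) (θ y), hsing x z hx h1,
      hsing y z hy h2] at this
    linear_combination this
  have hQ2 : ∀ z : W, Q (θ z) = c * σ (Q z) := by
    intro z
    have hp : IsHypPair Q (x : V) y := ⟨hx, hy, hxy⟩
    obtain ⟨z₀, hz₀⟩ : ∃ z₀ : W, z₀ = z - polar Q (y : V) z • x - polar Q (x : V) z • y := ⟨_, rfl⟩
    have h1 : polar Q (x : V) z₀ = 0 := by rw [hz₀]; exact hp.polar_left_proj z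
    have h2 : polar Q (y : V) z₀ = 0 := by rw [hz₀]; exact hp.polar_right_proj z
    generalize polar Q (y : V) z = a at hz₀
    generalize polar Q (x : V) z = b at hz₀
    have e1 : z = z₀ + a • x + b • y := by rw [hz₀]; abel
    rw [e1, map_add θ, map_add θ, hσ, hσ]
    push_cast
    qsimp [hθx, hθy, ← hc, polar_comm Q (θ z₀) (θ x), polar_comm Q (θ z₀) (θ y), hsing x z₀ hx h1,
      hsing y z₀ hy h2, hx, hy, hxy, polar_comm Q (z₀ : V) x, polar_comm Q (z₀ : V) y, h1, h2,
      hQ1 z₀ h1 h2]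
    simp only [map_add, map_mul, map_zero, map_one]
    ring
  -- the semilinear map
  let π : V →ₗ[F] W := LinearMap.codRestrict W
    (LinearMap.id - (Q.polarBilin f).smulRight e - (Q.polarBilin e).smulRight f) fun v =>
      mem_perp_pair.2 ⟨hef.polar_left_proj v, hef.polar_right_proj v⟩
  have hπ : ∀ v, (π v : V) = v - polar Q f v • e - polar Q e v • f := fun v => rfl
  let g : V → V := fun v => (c * σ (polar Q f v)) • e' + σ (polar Q e v) • f' + θ (π v)
  have hadd : ∀ u v, g (u + v) = g u + g v := by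
    intro u v
    simp only [g, polar_add_right, map_add]
    module
  have hsmul : ∀ (a : F) v, g (a • v) = σ a • g v := by
    intro a v
    simp only [g, polar_smul_right', map_mul, map_smul, hσ]
    module
  have hQg : ∀ v, Q (g v) = c * σ (Q v) := by
    intro v
    have e1 : v = polar Q f v • e + polar Q e v • f + π v := by rw [hπ]; abel
    have e2 : Q v = polar Q f v * polar Q e v + Q (π v) := by
      conv_lhs => rw [e1]
      qsimp [hef.1, hef.2, hef.3, hWe, hWf]
      ring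
    rw [e2]
    simp only [g]
    qsimp [hef'.1, hef'.2, hef'.3, hθe, hθf, hQ2]
    simp only [map_add, map_mul]
    ring
  have hginj : Function.Injective g := by
    refine (injective_iff_map_eq_zero (AddMonoidHom.mk' g hadd)).2 fun v hv => ?_
    change g v = 0 at hv
    have h1 := congrArg (polar Q e') hv
    have h2 := congrArg (polar Q f') hv
    simp only [g] at h1 h2 hv
    qsimp [hef'.1, hef'.2, hef'.3, hef'.pol', hθe, hθf] at h1 h2
    have h1 : polar Q e v = 0 := by simpa using h1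
    have h2 : polar Q f v = 0 := by simpa [hc0] using h2
    rw [h1, h2, map_zero, mul_zero, zero_smul, zero_smul, zero_add, zero_add] at hv
    have h4 := congrArg Subtype.val (hinj _ hv)
    rwa [hπ, h1, h2, zero_smul, zero_smul, sub_zero, sub_zero] at h4
  have : Finite V := Module.finite_of_finite F
  let γ : Gam Q := ⟨(Equiv.ofBijective g (Finite.injective_iff_bijective.1 hginj), σ), hadd, hsmul,
    c, hc0, hQg⟩
  have hγ : ∀ v, γ.1.1 v = g v := fun v => rfl
  have hm : Gam.mult γ = c := Gam.mult_eq γ (v := e + f) (by qsimp [hef.1, hef.2, hef.3]; simp)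
    (hQg _)
  have hγe : γ.1.1 e = c • e' := by
    have : π e = 0 := Subtype.ext (by rw [hπ]; qsimp [hef.1, hef.pol']; simp)
    rw [hγ]
    simp only [g]
    qsimp [hef.1, hef.pol', this]
    simp
  have hγf : γ.1.1 f = f' := by
    have : π f = 0 := Subtype.ext (by rw [hπ]; qsimp [hef.2, hef.3]; simp)
    rw [hγ]
    simp only [g]
    qsimp [hef.2, hef.3, this]
    simp
  have hγw : ∀ w : W, γ.1.1 w = θ w := by
    intro w
    have : π w = w := Subtype.ext (by rw [hπ, hWe, hWf]; simp)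
    rw [hγ]
    simp only [g]
    rw [this, hWe, hWf]
    simp
  have key : (Phi Q γ)⁻¹ * α = 1 := by
    refine eq_one_of_rel hQ h3 hef (fun w hw => ?_) ?_
    · let w₀ : W := ⟨w - polar Q f w • e, mem_perp_pair.2
        ⟨by qsimp [hw, hef.1]; ring, by qsimp [hef.pol']; ring⟩⟩
      rw [← eE_proj e f w, MulAut.mul_apply]
      change (Phi Q γ)⁻¹ (α (eE Q e w₀ : PE Q)) = (eE Q e w₀ : PE Q)
      rw [(hθ w₀).2.2, MulAut.inv_apply, MulEquiv.symm_apply_eq, Phi_eE, hγe, hγw, hm]
      congr 1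
      refine Subtype.ext ?_
      rw [eE_val, eE_val, eich_smul_left hc0, smul_smul, mul_inv_cancel₀ hc0, one_smul]
    · have := rel_Phi γ hef.2 hef.symm.ne_zero
      rw [hγf] at this
      exact hf.trans this.symm
  exact ⟨γ, (inv_mul_eq_one.1 key)⟩

end CL.AutO
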