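import Cfsg.Agent.AutO.Point

/-!
# Semilinear similarities and their action on `PΩ`
-/

set_option autoImplicit false

namespace CL.AutO

open QuadraticMap Module CL.Orth

variable {F V : Type*} [Field F] [AddCommGroup V] [Module F V] {Q : QuadraticForm F V}

/-- The group of semilinear similarities of `Q`, as pairs (map, field automorphism). -/
def Gam (Q : QuadraticForm F V) : Subgroup (Equiv.Perm V × RingAut F) where
  carrier := {g | (∀ u v, g.1 (u + v) = g.1 u + g.1 v) ∧ (∀ a v, g.1 (a • v) = g.2 a • g.1 v) ∧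
    ∃ c : F, c ≠ 0 ∧ ∀ v, Q (g.1 v) = c * g.2 (Q v)}
  one_mem' := ⟨fun _ _ => rfl, fun _ _ => rfl, 1, one_ne_zero, fun v => (one_mul _).symm⟩
  mul_mem' := by
    rintro g h ⟨g1, g2, c, hc, g3⟩ ⟨h1, h2, d, hd, h3⟩
    refine ⟨fun u v => ?_, fun a v => ?_, c * g.2 d, mul_ne_zero hc (by simpa using hd), fun v => ?_⟩
    · change g.1 (h.1 (u + v)) = g.1 (h.1 u) + g.1 (h.1 v)
      rw [h1, g1]
    · change g.1 (h.1 (a • v)) = g.2 (h.2 a) • g.1 (h.1 v)
      rw [h2, g2]
    · change Q (g.1 (h.1 v)) = c * g.2 d * g.2 (h.2 (Q v))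
      rw [g3, h3, map_mul, mul_assoc]
  inv_mem' := by
    rintro g ⟨g1, g2, c, hc, g3⟩
    refine ⟨fun u v => ?_, fun a v => ?_, g.2.symm c⁻¹, by simpa using hc, fun v => ?_⟩
    · apply g.1.injective
      change g.1 (g.1.symm (u + v)) = g.1 (g.1.symm u + g.1.symm v)
      rw [g1]
      simp
    · apply g.1.injective
      change g.1 (g.1.symm (a • v)) = g.1 (g.2.symm a • g.1.symm v)
      rw [g2]
      simp
    · apply g.2.injective
      change g.2 (Q (g.1.symm v)) = g.2 (g.2.symm c⁻¹ * g.2.symm (Q v))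
      have := g3 (g.1.symm v)
      rw [Equiv.apply_symm_apply] at this
      rw [map_mul, RingEquiv.apply_symm_apply, RingEquiv.apply_symm_apply, this,
        inv_mul_cancel_left₀ hc]

namespace Gam

theorem map_add (γ : Gam Q) (u v : V) : γ.1.1 (u + v) = γ.1.1 u + γ.1.1 v := γ.2.1 u v

theorem map_smul (γ : Gam Q) (a : F) (v : V) : γ.1.1 (a • v) = γ.1.2 a • γ.1.1 v := γ.2.2.1 a v

theorem map_zero (γ : Gam Q) : γ.1.1 0 = 0 := by
  have := map_smul γ 0 0
  rwa [zero_smul, _root_.map_zero γ.1.2, zero_smul] at this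

theorem map_neg (γ : Gam Q) (v : V) : γ.1.1 (-v) = -γ.1.1 v := by
  have := map_smul γ (-1) v
  rwa [neg_one_smul, _root_.map_neg γ.1.2, map_one, neg_one_smul] at this

theorem map_sub (γ : Gam Q) (u v : V) : γ.1.1 (u - v) = γ.1.1 u - γ.1.1 v := by
  rw [sub_eq_add_neg, map_add, map_neg, sub_eq_add_neg]

theorem map_eq_zero_iff (γ : Gam Q) (v : V) : γ.1.1 v = 0 ↔ v = 0 := by
  conv_lhs => rw [← map_zero γ]
  exact γ.1.1.injective.eq_iff

/-- The multiplier of a semilinear similarity. -/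
noncomputable def mult (γ : Gam Q) : F := Classical.choose γ.2.2.2

theorem mult_ne_zero (γ : Gam Q) : mult γ ≠ 0 := (Classical.choose_spec γ.2.2.2).1

theorem map_Q (γ : Gam Q) (v : V) : Q (γ.1.1 v) = mult γ * γ.1.2 (Q v) :=
  (Classical.choose_spec γ.2.2.2).2 v

theorem map_polar (γ : Gam Q) (u v : V) :
    polar Q (γ.1.1 u) (γ.1.1 v) = mult γ * γ.1.2 (polar Q u v) := by
  simp only [polar, ← map_add, map_Q, _root_.map_sub]
  ring

theorem map_Q_eq_zero_iff (γ : Gam Q) (v : V) : Q (γ.1.1 v) = 0 ↔ Q v = 0 := by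
  rw [map_Q, mul_eq_zero, or_iff_right (mult_ne_zero γ), EmbeddingLike.map_eq_zero_iff]

theorem map_polar_eq_zero_iff (γ : Gam Q) (u v : V) :
    polar Q (γ.1.1 u) (γ.1.1 v) = 0 ↔ polar Q u v = 0 := by
  rw [map_polar, mul_eq_zero, or_iff_right (mult_ne_zero γ), EmbeddingLike.map_eq_zero_iff]

theorem mult_eq (γ : Gam Q) {v : V} (hv : Q v ≠ 0) {c : F} (h : Q (γ.1.1 v) = c * γ.1.2 (Q v)) :
    mult γ = c := by
  rw [map_Q] at h
  exact mul_right_cancel₀ (by simpa using hv) h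

theorem apply_inv (γ : Gam Q) (v : V) : γ.1.1 ((γ⁻¹).1.1 v) = v := γ.1.1.apply_symm_apply v

theorem inv_apply (γ : Gam Q) (v : V) : (γ⁻¹).1.1 (γ.1.1 v) = v := γ.1.1.symm_apply_apply v

theorem mul_apply (γ δ : Gam Q) (v : V) : (γ * δ).1.1 v = γ.1.1 (δ.1.1 v) := rfl

/-- Conjugate of a linear map by a semilinear similarity. -/
def conjLin (γ : Gam Q) (k : V →ₗ[F] V) : V →ₗ[F] V where
  toFun v := γ.1.1 (k ((γ⁻¹).1.1 v))
  map_add' u v := by rw [map_add, _root_.map_add, map_add]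
  map_smul' a v := by
    rw [map_smul, _root_.map_smul, map_smul]
    exact congrArg (· • _) (γ.1.2.apply_symm_apply a)

/-- Conjugate of an isometry by a semilinear similarity. -/
def conjO (γ : Gam Q) (k : O Q) : O Q :=
  mkO (conjLin γ k.1) (conjLin γ (k⁻¹).1)
    (fun x => by
      change γ.1.1 (k.1 ((γ⁻¹).1.1 (γ.1.1 ((k⁻¹).1 ((γ⁻¹).1.1 x))))) = x
      rw [inv_apply, O_apply_inv_apply, apply_inv])
    (fun x => by
      change γ.1.1 ((k⁻¹).1 ((γ⁻¹).1.1 (γ.1.1 (k.1 ((γ⁻¹).1.1 x))))) = x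
      rw [inv_apply, O_inv_apply_apply, apply_inv])
    (fun x => by
      change Q (γ.1.1 (k.1 ((γ⁻¹).1.1 x))) = Q x
      rw [map_Q, O_map, ← map_Q, apply_inv])

theorem conjO_apply (γ : Gam Q) (k : O Q) (v : V) :
    (conjO γ k).1 v = γ.1.1 (k.1 ((γ⁻¹).1.1 v)) := rfl

theorem conjO_apply_apply (γ : Gam Q) (k : O Q) (v : V) :
    (conjO γ k).1 (γ.1.1 v) = γ.1.1 (k.1 v) := by rw [conjO_apply, inv_apply]

theorem conjO_mul (γ : Gam Q) (k l : O Q) : conjO γ (k * l) = conjO γ k * conjO γ l :=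
  O_ext fun x => by simp only [O_mul_apply, conjO_apply, inv_apply]

theorem conjO_one (γ : Gam Q) : conjO γ 1 = 1 :=
  O_ext fun x => by simp only [O_one_apply, conjO_apply, apply_inv]

theorem mul_conjO (γ δ : Gam Q) (k : O Q) : conjO (γ * δ) k = conjO γ (conjO δ k) :=
  O_ext fun x => by simp only [conjO_apply, mul_inv_rev, mul_apply]

theorem one_conjO (k : O Q) : conjO 1 k = k := O_ext fun _ => rfl

theorem conjO_eich (γ : Gam Q) (u w : V) :
    conjO γ (eich Q u w) = eich Q (γ.1.1 u) ((mult γ)⁻¹ • γ.1.1 w) := by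
  have hc := mult_ne_zero γ
  by_cases h : Q u = 0 ∧ polar Q u w = 0
  · refine O_ext fun x => ?_
    obtain ⟨y, rfl⟩ := γ.1.1.surjective x
    rw [conjO_apply_apply, eich_apply h.1 h.2, eich_apply ((map_Q_eq_zero_iff γ u).2 h.1)
      (by rw [polar_smul_right', (map_polar_eq_zero_iff γ u w).2 h.2, mul_zero])]
    simp only [map_sub, map_add, map_smul, map_mul, polar_smul_left', Q_smul, map_polar, map_Q,
      smul_smul]
    congr 2
    · congr 2
      field_simp
    · congr 1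
      field_simp
    · field_simp
  · rw [eich_of_not h, conjO_one, eich_of_not]
    rintro ⟨h1, h2⟩
    rw [polar_smul_right', mul_eq_zero, or_iff_right (inv_ne_zero hc), map_polar_eq_zero_iff] at h2
    exact h ⟨(map_Q_eq_zero_iff γ u).1 h1, h2⟩

/-- Conjugation as a homomorphism. -/
def conjOHom (γ : Gam Q) : O Q →* O Q := ⟨⟨conjO γ, conjO_one γ⟩, conjO_mul γ⟩

theorem conjO_mem_E (γ : Gam Q) {k : O Q} (hk : k ∈ E Q) : conjO γ k ∈ E Q := by
  have : E Q ≤ (E Q).comap (conjOHom γ) := E_le fun u w _ _ => by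
    change conjO γ (eich Q u w) ∈ E Q
    rw [conjO_eich]
    exact eich_mem_E _ _
  exact this hk

/-- The action on `Ω`. -/
def autE (Q : QuadraticForm F V) : Gam Q →* MulAut (E Q) where
  toFun γ :=
    { toFun := fun k => ⟨conjO γ k.1, conjO_mem_E γ k.2⟩
      invFun := fun k => ⟨conjO γ⁻¹ k.1, conjO_mem_E γ⁻¹ k.2⟩
      left_inv := fun k => Subtype.ext (by
        change conjO γ⁻¹ (conjO γ k.1) = k.1
        rw [← mul_conjO, inv_mul_cancel, one_conjO])
      right_inv := fun k => Subtype.ext (by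
        change conjO γ (conjO γ⁻¹ k.1) = k.1
        rw [← mul_conjO, mul_inv_cancel, one_conjO])
      map_mul' := fun k l => Subtype.ext (conjO_mul γ k.1 l.1) }
  map_one' := MulEquiv.ext fun k => Subtype.ext (one_conjO k.1)
  map_mul' γ δ := MulEquiv.ext fun k => Subtype.ext (mul_conjO γ δ k.1)

theorem autE_val (γ : Gam Q) (k : E Q) : (autE Q γ k).1 = conjO γ k.1 := rfl

theorem autE_eE (γ : Gam Q) (u w : V) :
    autE Q γ (eE Q u w) = eE Q (γ.1.1 u) ((mult γ)⁻¹ • γ.1.1 w) :=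
  Subtype.ext (conjO_eich γ u w)

end Gam

/-- Automorphisms descend to the central quotient. -/
def autQuot (G : Type*) [Group G] : MulAut G →* MulAut (G ⧸ Subgroup.center G) where
  toFun := quotCenterCongr
  map_one' := MulEquiv.ext fun x => by
    obtain ⟨g, rfl⟩ := QuotientGroup.mk_surjective x
    rfl
  map_mul' α β := MulEquiv.ext fun x => by
    obtain ⟨g, rfl⟩ := QuotientGroup.mk_surjective x
    rfl

theorem autQuot_mk {G : Type*} [Group G] (α : MulAut G) (g : G) :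
    autQuot G α (QuotientGroup.mk g) = QuotientGroup.mk (α g) := rfl

/-- The projective group `PΩ`. -/
abbrev PE (Q : QuadraticForm F V) : Type _ := E Q ⧸ Subgroup.center (E Q)

/-- The automorphisms of `PΩ` induced by semilinear similarities. -/
def Phi (Q : QuadraticForm F V) : Gam Q →* MulAut (PE Q) := (autQuot (E Q)).comp (Gam.autE Q)

theorem Phi_mk (γ : Gam Q) (k : E Q) :
    Phi Q γ (QuotientGroup.mk k) = QuotientGroup.mk (Gam.autE Q γ k) := rfl

theorem Phi_eE (γ : Gam Q) (u w : V) : Phi Q γ (QuotientGroup.mk (eE Q u w)) =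
    QuotientGroup.mk (eE Q (γ.1.1 u) ((Gam.mult γ)⁻¹ • γ.1.1 w)) := by
  rw [Phi_mk, Gam.autE_eE]

/-- Scalars as similarities. -/
def scalarGam (Q : QuadraticForm F V) : Fˣ →* Gam Q where
  toFun a := ⟨(MulAction.toPerm a, 1), fun u v => smul_add a u v, fun b v => smul_comm a b v,
    (a : F) * a, mul_ne_zero a.ne_zero a.ne_zero, fun v => Q_smul Q a v⟩
  map_one' := Subtype.ext (Prod.ext (Equiv.ext fun v => one_smul _ v) rfl)
  map_mul' a b := Subtype.ext (Prod.ext (Equiv.ext fun v => mul_smul a b v) rfl)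

theorem scalarGam_apply (a : Fˣ) (v : V) : (scalarGam Q a).1.1 v = (a : F) • v := rfl

theorem scalarGam_injective {u : V} (hu : u ≠ 0) : Function.Injective (scalarGam Q) := by
  intro a b h
  have : (a : F) • u = (b : F) • u := congrArg (fun γ : Gam Q => γ.1.1 u) h
  exact Units.ext (smul_left_injective F hu this)

theorem Phi_scalarGam (a : Fˣ) : Phi Q (scalarGam Q a) = 1 := by
  have : Gam.autE Q (scalarGam Q a) = 1 := MulEquiv.ext fun k => Subtype.ext (O_ext fun x => by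
    rw [Gam.autE_val, Gam.conjO_apply, ← map_inv, scalarGam_apply, scalarGam_apply, map_smul,
      smul_smul, Units.mul_inv, one_smul]
    rfl)
  rw [Phi, MonoidHom.comp_apply, this, map_one]

/-- A linear similarity as an element of `Gam`. -/
def ofLin (g : V ≃ₗ[F] V) {c : F} (hc : c ≠ 0) (h : ∀ v, Q (g v) = c * Q v) : Gam Q :=
  ⟨(g.toEquiv, 1), g.map_add, g.map_smul, c, hc, h⟩

/-- The order of the group of semilinear similarities. -/
theorem card_Gam {v0 : V} (hv0 : Q v0 ≠ 0) (hσ : ∀ σ : RingAut F, ∃ γ : Gam Q, γ.1.2 = σ)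
    (M : Subgroup Fˣ) (hM : ∀ c : Fˣ, c ∈ M ↔ ∃ g : V ≃ₗ[F] V, ∀ v, Q (g v) = c * Q v) :
    Nat.card (Gam Q) = Nat.card (RingAut F) * Nat.card M * Nat.card (O Q) := by
  let s : Gam Q →* RingAut F := (MonoidHom.snd _ _).comp (Gam Q).subtype
  have hs : Function.Surjective s := hσ
  have h1 := s.ker.card_mul_index
  rw [Subgroup.index_ker, MonoidHom.range_eq_top.2 hs, Subgroup.card_top] at h1
  have hk : ∀ γ : s.ker, γ.1.1.2 = 1 := fun γ => γ.2
  have hQk : ∀ (γ : s.ker) v, Q (γ.1.1.1 v) = Gam.mult γ.1 * Q v := fun γ v => by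
    rw [Gam.map_Q, hk]; rfl
  let μ : s.ker →* Fˣ :=
    { toFun := fun γ => Units.mk0 (Gam.mult γ.1) (Gam.mult_ne_zero _)
      map_one' := Units.ext (Gam.mult_eq _ hv0 (one_mul _).symm)
      map_mul' := fun γ δ => Units.ext (Gam.mult_eq _ hv0 (by
        rw [hk (γ * δ)]
        change Q (γ.1.1.1 (δ.1.1.1 v0)) = Gam.mult γ.1 * Gam.mult δ.1 * Q v0
        rw [hQk, hQk, mul_assoc])) }
  let lin : s.ker → (V ≃ₗ[F] V) := fun γ =>
    { γ.1.1.1 with
      map_add' := Gam.map_add γ.1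
      map_smul' := fun a v => by
        have := Gam.map_smul γ.1 a v
        rw [hk] at this
        exact this }
  have hrange : μ.range = M := by
    ext c
    rw [hM]
    constructor
    · rintro ⟨γ, rfl⟩
      exact ⟨lin γ, hQk γ⟩
    · rintro ⟨g, hg⟩
      exact ⟨⟨ofLin g c.ne_zero hg, rfl⟩, Units.ext (Gam.mult_eq _ hv0 (hg v0))⟩
  have h2 := μ.ker.card_mul_index
  rw [Subgroup.index_ker, hrange] at h2
  have h3 : Nat.card μ.ker = Nat.card (O Q) := by
    refine Nat.card_congr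
      { toFun := fun γ => ⟨lin γ.1, fun v => ?_⟩
        invFun := fun g => ⟨⟨ofLin g.1 one_ne_zero (fun v => by rw [O_map, one_mul]), rfl⟩,
          Units.ext (Gam.mult_eq _ hv0 (by
            change Q (g.1 v0) = 1 * Q v0
            rw [O_map, one_mul]))⟩
        left_inv := fun γ => Subtype.ext (Subtype.ext (Subtype.ext
          (Prod.ext rfl (hk γ.1).symm)))
        right_inv := fun g => rfl }
    have : Gam.mult γ.1.1 = 1 := congrArg Units.val γ.2
    change Q (γ.1.1.1.1 v) = Q v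
    rw [hQk, this, one_mul]
  rw [← h1, ← h2, h3]
  ring

end CL.AutO
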