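import Cfsg.Agent.AutO.Fund

/-!
# The automorphism group of `PΩ`
-/

set_option autoImplicit false

namespace CL.AutO

open QuadraticMap Module CL.Orth

variable {F V : Type*} [Field F] [AddCommGroup V] [Module F V] {Q : QuadraticForm F V}

/-- `α` carries the stabiliser of `X` to that of `Y`. -/
def SRel (α : MulAut (PE Q)) (X Y : Submodule F V) : Prop :=
  ∀ x, α x ∈ PStab Q Y ↔ x ∈ PStab Q X

theorem SRel.symm {α : MulAut (PE Q)} {X Y : Submodule F V} (h : SRel α X Y) : SRel α⁻¹ Y X :=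
  fun x => by rw [← h, MulAut.apply_inv_self]

theorem SRel.trans {α β : MulAut (PE Q)} {X Y Z : Submodule F V} (h : SRel α X Y)
    (h' : SRel β Y Z) : SRel (β * α) X Z :=
  fun x => by rw [MulAut.mul_apply, h', h]

theorem srel_conj (g : E Q) {X Y : Submodule F V} (h : ∀ v, g.1.1 v ∈ Y ↔ v ∈ X) :
    SRel (MulAut.conj (g : PE Q)) X Y := by
  have key : ∀ (g : E Q) {X Y : Submodule F V}, (∀ v, g.1.1 v ∈ Y ↔ v ∈ X) → ∀ x ∈ PStab Q X,
      MulAut.conj (g : PE Q) x ∈ PStab Q Y := by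
    rintro g X Y h _ ⟨k, hk, rfl⟩
    refine ⟨g * k * g⁻¹, mem_stabSub.2 fun v => ?_, rfl⟩
    change g.1.1 (k.1.1 ((g.1⁻¹).1 v)) ∈ Y ↔ _
    rw [h]
    refine (mem_stabSub.1 hk _).trans ?_
    rw [← h, O_apply_inv_apply]
  refine fun x => ⟨fun hx => ?_, key g h x⟩
  have := key g⁻¹ (X := Y) (Y := X) (fun v => by
    rw [← h]
    change g.1.1 ((g.1⁻¹).1 v) ∈ Y ↔ _
    rw [O_apply_inv_apply]) _ hx
  simpa [mul_assoc] using this

theorem rel_conj (g : E Q) {u : V} (hu : Q u = 0) (hu0 : u ≠ 0) :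
    Rel (MulAut.conj (g : PE Q)) u (g.1.1 u) :=
  ⟨hu, hu0, by rw [O_map, hu], (O_apply_eq_zero_iff _ _).not.2 hu0, fun x => by
    rw [MulAut.conj_apply, conj_mem_PQ_iff]⟩

variable [FiniteDimensional F V]

theorem center_le_stabE (hQ : Q.polarBilin.Nondegenerate) (h3 : 3 ≤ finrank F V) {u : V}
    (hu : Q u = 0) (hu0 : u ≠ 0) (X : Submodule F V) : Subgroup.center (E Q) ≤ stabE Q X := by
  intro z hz
  refine mem_stabSub.2 fun v => ?_
  rw [repE_apply]
  rcases (mem_center_E_iff hQ h3 hu hu0 z).1 hz with h | h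
  · rw [h, O_one_apply]
  · rw [h, negO_apply, neg_mem_iff]

/-- The group `Ω` has at most two orbits on totally singular subspaces of a given dimension. -/
theorem exists_two_orbits (hQ : Q.polarBilin.Nondegenerate) (h5 : 5 ≤ finrank F V)
    {X₀ : Submodule F V} (hX₀ : ∀ x ∈ X₀, Q x = 0) (h0 : X₀ ≠ ⊥) :
    ∃ X₁ : Submodule F V, ∀ X : Submodule F V, (∀ x ∈ X, Q x = 0) →
      finrank F X = finrank F X₀ → (∃ g : E Q, ∀ v, g.1.1 v ∈ X ↔ v ∈ X₀) ∨
        ∃ g : E Q, ∀ v, g.1.1 v ∈ X ↔ v ∈ X₁ := by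
  obtain ⟨x, hx, hx0⟩ := Submodule.exists_mem_ne_zero_of_ne_bot h0
  obtain ⟨y, hy, hxy⟩ := exists_hyp_partner' hQ (hX₀ x hx) hx0
  have hp : IsHypPair Q x y := ⟨hX₀ x hx, hy, hxy⟩
  have hT : Tame Q := tame_of_finrank_ne_four hQ (by omega)
  let S : Subgroup (O Q) := stabSub (repO Q) X₀
  let r := refl Q (x + y)
  have hS : ∀ ρ : F, ρ ≠ 0 → r * refl Q (x + ρ • y) ∈ S := by
    have key : ∀ ρ σ : F, ρ ≠ 0 → σ ≠ 0 → ∀ z ∈ X₀,
        (refl Q (x + σ • y) * refl Q (x + ρ • y)).1 z ∈ X₀ := by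
      intro ρ σ hρ hσ z hz
      have hxz : polar Q x z = 0 := QuadF.polar_eq_zero_of_ts hX₀ hx hz
      have : (refl Q (x + σ • y) * refl Q (x + ρ • y)).1 z =
          z + (polar Q y z * (ρ / σ - 1)) • x := by
        rw [O_mul_apply, refl_apply, refl_apply]
        qsimp [hp.1, hp.2, hp.3, hp.pol', hxz, mul_zero, zero_add, add_zero, mul_one]
        match_scalars <;> field_simp <;> ring
      rw [this]
      exact X₀.add_mem hz (X₀.smul_mem _ hx)
    intro ρ hρ
    refine mem_stabSub.2 fun z => ⟨fun h => ?_, fun h => ?_⟩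
    · have := key 1 ρ one_ne_zero hρ _ h
      rw [one_smul] at this
      change (refl Q (x + ρ • y) * r * (r * refl Q (x + ρ • y))).1 z ∈ X₀ at this
      rwa [mul_assoc, ← mul_assoc r, refl_mul_self, one_mul, refl_mul_self] at this
    · have := key ρ 1 hρ one_ne_zero _ h
      rwa [one_smul] at this
  have hK : ∀ v, Q v ≠ 0 → r * refl Q v ∈ E Q ⊔ S := by
    intro v hv
    obtain ⟨ρ, hρ, -, e⟩ := hp.exists_mk_refl hQ hv
    have h1 := QuotientGroup.eq.1 e.symm
    have : r * refl Q v = r * refl Q (x + ρ • y) * ((refl Q (x + ρ • y))⁻¹ * refl Q v) := by group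
    rw [this]
    exact mul_mem (Subgroup.mem_sup_right (hS ρ hρ)) (Subgroup.mem_sup_left h1)
  have hall : ∀ g : O Q, g ∈ E Q ⊔ S ∨ r * g ∈ E Q ⊔ S := by
    refine refl_induction hQ hT (Or.inl (one_mem _)) fun v g hv h => ?_
    rcases h with h | h
    · exact Or.inr (by rw [← mul_assoc]; exact mul_mem (hK v hv) h)
    · refine Or.inl ?_
      have := mul_mem (inv_mem (hK v hv)) h
      rwa [mul_inv_rev, refl_inv, mul_assoc, inv_mul_cancel_left] at this
  refine ⟨X₀.comap (r.1 : V →ₗ[F] V), fun X hX hd => ?_⟩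
  obtain ⟨φ⟩ : Nonempty (X₀ ≃ₗ[F] X) := ⟨LinearEquiv.ofFinrankEq _ _ hd.symm⟩
  obtain ⟨g, hg, hgφ⟩ := QuadF.witt_equiv hQ X₀ X φ fun z => by rw [hX _ (φ z).2, hX₀ _ z.2]
  have hgX : ∀ v, g v ∈ X ↔ v ∈ X₀ := fun v => ⟨fun h => by
    obtain ⟨z, hz⟩ := φ.surjective ⟨_, h⟩
    have := hgφ z
    rw [hz] at this
    rw [← g.injective this]
    exact z.2, fun h => by rw [hgφ ⟨v, h⟩]; exact (φ _).2⟩
  rcases hall ⟨g, hg⟩ with h | h
  · obtain ⟨e, he, s, hs, e1⟩ := Subgroup.mem_sup_of_normal_left.1 h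
    refine Or.inl ⟨⟨e, he⟩, fun v => ?_⟩
    rw [← mem_stabSub.1 (inv_mem hs) v, ← hgX]
    change _ ↔ (⟨g, hg⟩ : O Q).1 ((s⁻¹).1 v) ∈ X
    rw [← e1, O_mul_apply, O_apply_inv_apply]
  · obtain ⟨e, he, s, hs, e1⟩ := Subgroup.mem_sup_of_normal_left.1 h
    refine Or.inr ⟨⟨r⁻¹ * e * r⁻¹⁻¹, (E_normal Q).conj_mem e he r⁻¹⟩, fun v => ?_⟩
    rw [Submodule.mem_comap, ← mem_stabSub.1 (inv_mem hs), ← hgX]
    change (r⁻¹ * e * r⁻¹⁻¹).1 v ∈ X ↔ (⟨g, hg⟩ : O Q).1 ((s⁻¹).1 (r.1 v)) ∈ X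
    rw [← mul_inv_eq_iff_eq_mul.2 e1.symm]
    simp only [O_mul_apply, inv_inv, O_inv_apply_apply]

variable [Finite F]

theorem rel_of_srel (hQ : Q.polarBilin.Nondegenerate) (h5 : 5 ≤ finrank F V)
    {α : MulAut (PE Q)} {e u : V} (he : Q e = 0) (he0 : e ≠ 0) (hu : Q u = 0) (hu0 : u ≠ 0)
    (h : SRel α (Submodule.span F {e}) (Submodule.span F {u})) : Rel α e u := by
  obtain ⟨p, hp⟩ := CharP.exists F
  have : Fact p.Prime := ⟨CharP.char_is_prime F p⟩
  have := finite_E Q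
  have key : ∀ {α : MulAut (PE Q)} {e u : V}, e ≠ 0 → Q u = 0 → u ≠ 0 →
      SRel α (Submodule.span F {e}) (Submodule.span F {u}) → ∀ x ∈ PQ Q e, α x ∈ PQ Q u := by
    intro α e u he0 hu hu0 h x hx
    have h1 : NormalIn ((PQ Q e).map α.toMonoidHom) (PStab Q (Submodule.span F {u})) := by
      have e1 : PStab Q (Submodule.span F {u}) =
          (PStab Q (Submodule.span F {e})).map α.toMonoidHom := by
        ext y
        obtain ⟨z, rfl⟩ := α.surjective y
        rw [h]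
        exact (Subgroup.mem_map_iff_mem (f := α.toMonoidHom) α.injective).symm
      rw [e1]
      exact ((QE_normalIn (Q := Q) he0).map (QuotientGroup.mk' _)).map α.toMonoidHom
    obtain ⟨P, hP, hPm, hPn⟩ := exists_lift_normalIn (p := p)
      (QuotientGroup.mk'_surjective (Subgroup.center (E Q))) (by rw [QuotientGroup.ker_mk'])
      (by rw [QuotientGroup.ker_mk']; exact coprime_card_center hQ (by omega) p)
      (((QE_isPGroup p e).map _).map _) h1
    rw [PStab, Subgroup.comap_map_eq_self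
      (by rw [QuotientGroup.ker_mk']; exact center_le_stabE hQ (by omega) hu hu0 _)] at hPn
    have := le_QE_of_normalIn hQ h5 (indexTwo_of_finite hQ h5) p hu hu0 hPn hP
    exact Subgroup.map_mono this (hPm ▸ ⟨x, hx, rfl⟩)
  refine ⟨he, he0, hu, hu0, fun x => ⟨fun hx => ?_, key he0 hu hu0 h x⟩⟩
  have := key hu0 he he0 h.symm _ hx
  rwa [MulAut.inv_apply_self] at this

theorem mem_range_or (hQ : Q.polarBilin.Nondegenerate) (h7 : 7 ≤ finrank F V)
    (α : MulAut (PE Q)) {e : V} (he : Q e = 0) (he0 : e ≠ 0) :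
    α ∈ (Phi Q).range ∨ (finrank F V = 8 ∧ ∃ X : Submodule F V, (∀ x ∈ X, Q x = 0) ∧
      finrank F X = 4 ∧ SRel α (Submodule.span F {e}) X) := by
  obtain ⟨p, hp⟩ := CharP.exists F
  have : Fact p.Prime := ⟨CharP.char_is_prime F p⟩
  have := finite_E Q
  have h5 : 5 ≤ finrank F V := by omega
  have hZ : (Nat.card (QuotientGroup.mk' (Subgroup.center (E Q))).ker).Coprime p := by
    rw [QuotientGroup.ker_mk']; exact coprime_card_center hQ (by omega) p
  have h1 := (((pdata_stabE_span hQ h5 (indexTwo_of_finite hQ h5) p he he0).map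
    (QuotientGroup.mk'_surjective (Subgroup.center (E Q))) (by rw [QuotientGroup.ker_mk']) hZ
    (by rw [QuotientGroup.ker_mk']; exact center_le_stabE hQ (by omega) he he0 _)).map_equiv
      α).comap (QuotientGroup.mk'_surjective _) hZ
  obtain ⟨X, hX, e1, hd⟩ := eq_stabE_of_pdata hQ (by omega) p he he0 h1
  have hS : SRel α (Submodule.span F {e}) X := by
    intro x
    rw [PStab, ← e1, Subgroup.map_comap_eq_self_of_surjective (QuotientGroup.mk'_surjective _)]
    exact Subgroup.mem_map_iff_mem (f := α.toMonoidHom) α.injective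
  rcases hd with hd | hd
  · obtain ⟨u, hu0, rfl⟩ : ∃ u, u ≠ 0 ∧ X = Submodule.span F {u} := by
      obtain ⟨u, hu, hu0⟩ := exists_mem_notMem_of_finrank_lt (X := X) (Y := ⊥) (by simp [hd])
      have hu0 : u ≠ 0 := by simpa using hu0
      refine ⟨u, hu0, (Submodule.eq_of_le_of_finrank_eq
        ((Submodule.span_singleton_le_iff_mem _ _).2 hu) ?_).symm⟩
      rw [finrank_span_singleton hu0, hd]
    exact Or.inl (mem_range_Phi_of_rel hQ h7
      (rel_of_srel hQ h5 he he0 (hX u (Submodule.mem_span_singleton_self u)) hu0 hS))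
  · exact Or.inr ⟨by omega, X, hX, by omega, hS⟩

theorem range_Phi_eq_top (hQ : Q.polarBilin.Nondegenerate) (h7 : 7 ≤ finrank F V)
    (hno : finrank F V = 8 → ¬ ∃ X : Submodule F V, finrank F X = 4 ∧ ∀ x ∈ X, Q x = 0) :
    (Phi Q).range = ⊤ := by
  obtain ⟨e, he0, he⟩ := QuadF.exists_singular Q (by omega)
  refine eq_top_iff.2 fun α _ => ?_
  rcases mem_range_or hQ h7 α he he0 with h | ⟨h8, X, hX, hd, -⟩
  · exact h
  · exact (hno h8 ⟨X, hd, hX⟩).elim

theorem index_range_Phi_le (hQ : Q.polarBilin.Nondegenerate) (h7 : 7 ≤ finrank F V) :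
    (Phi Q).range.index ≤ 3 := by
  classical
  by_cases hno : ∃ X : Submodule F V, finrank F X = 4 ∧ ∀ x ∈ X, Q x = 0
  swap
  · rw [range_Phi_eq_top hQ h7 fun _ => hno, Subgroup.index_top]
    omega
  obtain ⟨X₀, hd₀, hX₀⟩ := hno
  obtain ⟨e, he0, he⟩ := QuadF.exists_singular Q (by omega)
  obtain ⟨X₁, hX₁⟩ := exists_two_orbits hQ (by omega) hX₀ (by rintro rfl; simp at hd₀)
  let P : Submodule F V → MulAut (PE Q) → Prop := fun Y α =>
    ∃ g : E Q, SRel ((MulAut.conj (g : PE Q))⁻¹ * α) (Submodule.span F {e}) Y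
  have hP : ∀ Y α β, P Y α → P Y β → α⁻¹ * β ∈ (Phi Q).range := by
    rintro Y α β ⟨g, hg⟩ ⟨k, hk⟩
    have h1 := mem_range_Phi_of_rel hQ h7
      (rel_of_srel hQ (by omega) he he0 he he0 (hk.trans hg.symm))
    obtain ⟨l, hl⟩ := QuotientGroup.mk_surjective (β⁻¹ ((k * g⁻¹ : E Q) : PE Q))
    have h2 := mem_range_Phi_of_rel hQ h7 (rel_conj l he he0)
    convert mul_mem h1 h2 using 1
    refine MulEquiv.ext fun x => ?_
    simp only [hl, MulAut.mul_apply, mul_inv_rev, inv_inv, MulAut.conj_apply, map_mul, map_inv,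
      MulAut.apply_inv_self, MulAut.conj_inv_apply, QuotientGroup.mk_mul, QuotientGroup.mk_inv]
    simp only [← map_inv, ← map_mul]
    congr 1
    group
  have hall : ∀ α, α ∈ (Phi Q).range ∨ P X₀ α ∨ P X₁ α := by
    intro α
    rcases mem_range_or hQ h7 α he he0 with h | ⟨-, X, hX, hd, hS⟩
    · exact Or.inl h
    · rcases hX₁ X hX (by rw [hd, hd₀]) with ⟨g, hg⟩ | ⟨g, hg⟩
      · exact Or.inr (Or.inl ⟨g, hS.trans (srel_conj g hg).symm⟩)
      · exact Or.inr (Or.inr ⟨g, hS.trans (srel_conj g hg).symm⟩)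
  let T : MulAut (PE Q) → Fin 3 := fun α => if α ∈ (Phi Q).range then 0 else if P X₀ α then 1 else 2
  have hT : ∀ α β, T α = T β → α⁻¹ * β ∈ (Phi Q).range := by
    intro α β h
    simp only [T] at h
    split_ifs at h with h1 h2
    · exact mul_mem (inv_mem h1) h2
    all_goals first
      | exact absurd h (by decide)
      | exact hP _ _ _ ‹_› ‹_›
      | exact hP X₁ _ _ (((hall α).resolve_left ‹_›).resolve_left ‹_›)
          (((hall β).resolve_left ‹_›).resolve_left ‹_›)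
  have := Nat.card_le_card_of_injective (fun q : MulAut (PE Q) ⧸ (Phi Q).range => T q.out)
    fun a b h => by
      rw [← a.out_eq', ← b.out_eq']
      exact QuotientGroup.eq.2 (hT _ _ h)
  rw [Nat.card_eq_fintype_card (α := Fin 3), Fintype.card_fin] at this
  exact this

theorem index_range_Phi_eq_three (hQ : Q.polarBilin.Nondegenerate) (h7 : 7 ≤ finrank F V)
    {τ : MulAut (PE Q)} (h3 : τ ^ 3 = 1) {u w : V}
    (h : ∀ u' w', τ (eE Q u w : PE Q) ≠ (eE Q u' w' : PE Q)) : (Phi Q).range.index = 3 := by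
  have := finite_E Q
  have : Finite (MulAut (PE Q)) := Finite.of_injective _ (DFunLike.coe_injective (F := MulAut (PE Q)))
  have hτ : τ ∉ (Phi Q).range := by
    rintro ⟨γ, rfl⟩
    exact h _ _ (Phi_eE γ u w)
  have h0 := (Phi Q).range.index_ne_zero_of_finite
  have h1 : (Phi Q).range.index ≠ 1 := fun e => hτ (by rw [Subgroup.index_eq_one.1 e]; trivial)
  have h2 : (Phi Q).range.index ≠ 2 := fun e => hτ (by
    have := Subgroup.mul_self_mem_of_index_two e (τ * τ)
    rwa [show τ * τ * (τ * τ) = τ ^ 3 * τ by simp only [pow_succ, pow_zero, one_mul, mul_assoc], h3, one_mul] at this)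
  have := index_range_Phi_le hQ h7
  omega

theorem card_mulAut (hQ : Q.polarBilin.Nondegenerate) (h5 : 5 ≤ finrank F V) :
    (Nat.card F - 1) * Nat.card (MulAut (PE Q)) = (Phi Q).range.index * Nat.card (Gam Q) := by
  rw [← card_range_Phi hQ h5, ← (Phi Q).range.card_mul_index]
  ring

end CL.AutO
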