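import Cfsg.Agent.Base

/-!
# Group-theoretic invariants of point stabilisers

`PData p b H`: `H` is a maximal subgroup of index prime to `p` all of whose normal `p`-subgroups are
abelian of order at most `b`. Transport along isomorphisms and central `p'`-quotients; unipotent
radicals of flags in linear groups.
-/

set_option autoImplicit false

namespace CL.AutO

open scoped Pointwise

section Group

variable {G G' : Type*} [Group G] [Group G']

/-- `N` is a subgroup of `H` normalised by `H`. -/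
def NormalIn (N H : Subgroup G) : Prop := N ≤ H ∧ ∀ h ∈ H, ∀ x ∈ N, h * x * h⁻¹ ∈ N

theorem NormalIn.map {N H : Subgroup G} (h : NormalIn N H) (f : G →* G') :
    NormalIn (N.map f) (H.map f) := by
  refine ⟨Subgroup.map_mono h.1, ?_⟩
  rintro _ ⟨a, ha, rfl⟩ _ ⟨x, hx, rfl⟩
  exact ⟨a * x * a⁻¹, h.2 a ha x hx, by simp⟩

theorem NormalIn.comap {N H : Subgroup G'} (h : NormalIn N H) (f : G →* G') :
    NormalIn (N.comap f) (H.comap f) := by
  refine ⟨Subgroup.comap_mono h.1, fun a ha x hx => ?_⟩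
  simpa using h.2 (f a) ha (f x) hx

/-- Maximal subgroup of `p'`-index whose normal `p`-subgroups are abelian of order at most `b`. -/
structure PData (p b : ℕ) (H : Subgroup G) : Prop where
  coatom : IsCoatom H
  index : ¬ p ∣ H.index
  comm : ∀ N : Subgroup G, NormalIn N H → IsPGroup p N → ∀ x ∈ N, ∀ y ∈ N, x * y = y * x
  card : ∀ N : Subgroup G, NormalIn N H → IsPGroup p N → Nat.card N ≤ b

theorem isCoatom_comap_of_surjective {f : G →* G'} (hf : Function.Surjective f) {H : Subgroup G'}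
    (h : IsCoatom H) : IsCoatom (H.comap f) := by
  refine ⟨fun e => h.1 ?_, fun K hK => ?_⟩
  · rw [← Subgroup.map_comap_eq_self_of_surjective hf H, e]
    exact Subgroup.map_top_of_surjective f hf
  · have hker : f.ker ≤ K := (Subgroup.ker_le_comap f H).trans hK.le
    have h1 : H < K.map f := by
      refine lt_of_le_of_ne ?_ fun e => hK.ne ?_
      · rw [← Subgroup.map_comap_eq_self_of_surjective hf H]
        exact Subgroup.map_mono hK.le
      · rw [e, Subgroup.comap_map_eq_self hker]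
    rw [← Subgroup.comap_map_eq_self hker, h.2 _ h1, Subgroup.comap_top]

theorem isCoatom_map_of_surjective {f : G →* G'} (hf : Function.Surjective f) {H : Subgroup G}
    (hker : f.ker ≤ H) (h : IsCoatom H) : IsCoatom (H.map f) := by
  refine ⟨fun e => h.1 ?_, fun K hK => ?_⟩
  · rw [← Subgroup.comap_map_eq_self hker, e, Subgroup.comap_top]
  · have h1 : H < K.comap f := by
      refine lt_of_le_of_ne (Subgroup.map_le_iff_le_comap.1 hK.le) fun e => hK.ne ?_
      rw [e, Subgroup.map_comap_eq_self_of_surjective hf]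
    rw [← Subgroup.map_comap_eq_self_of_surjective hf K, h.2 _ h1]
    exact Subgroup.map_top_of_surjective f hf

theorem eq_one_of_isPGroup_of_coprime {p : ℕ} {N Z : Subgroup G} (hN : IsPGroup p N)
    (hZ : (Nat.card Z).Coprime p) {x : G} (hx : x ∈ N) (hxZ : x ∈ Z) : x = 1 := by
  obtain ⟨k, hk⟩ := hN ⟨x, hx⟩
  have h1 : x ^ p ^ k = 1 := congrArg Subtype.val hk
  have h2 : x ^ Nat.card Z = 1 := congrArg Subtype.val (pow_card_eq_one' (x := (⟨x, hxZ⟩ : Z)))
  exact pow_eq_one_iff_of_coprime (hZ.pow_right k) |>.1 ⟨h2, h1⟩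

/-- Lifting a `p`-subgroup through a central `p'`-extension. -/
theorem exists_lift [Finite G] {p : ℕ} [Fact p.Prime] {f : G →* G'} (hf : Function.Surjective f)
    (hc : f.ker ≤ Subgroup.center G) (hZ : (Nat.card f.ker).Coprime p) {N : Subgroup G'}
    (hN : IsPGroup p N) : ∃ P : Subgroup G, IsPGroup p P ∧ P.map f = N ∧
      ∀ x, f x ∈ N → (∃ k, x ^ p ^ k = 1) → x ∈ P := by
  let M := N.comap f
  let φ : M →* N := (f.comp M.subtype).codRestrict N (fun x => x.2)
  have hφ : Function.Surjective φ := by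
    rintro ⟨n, hn⟩
    obtain ⟨g, rfl⟩ := hf n
    exact ⟨⟨g, hn⟩, rfl⟩
  obtain ⟨S⟩ : Nonempty (Sylow p M) := inferInstance
  have hS : (S : Subgroup M).map φ = ⊤ := by
    have : ((S.mapSurjective hφ : Sylow p N) : Subgroup N) = ⊤ :=
      ((S.mapSurjective hφ).is_maximal' (hN.to_subgroup ⊤) le_top).symm
    simpa using this
  have hP : IsPGroup p ((S : Subgroup M).map M.subtype) := S.isPGroup'.map _
  have hmap : ((S : Subgroup M).map M.subtype).map f = N := by
    apply le_antisymm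
    · rintro _ ⟨_, ⟨x, -, rfl⟩, rfl⟩
      exact x.2
    · intro n hn
      have : (⟨n, hn⟩ : N) ∈ (S : Subgroup M).map φ := by rw [hS]; trivial
      obtain ⟨x, hx, e⟩ := this
      exact ⟨x, ⟨x, hx, rfl⟩, congrArg Subtype.val e⟩
  refine ⟨_, hP, hmap, ?_⟩
  rintro x hx ⟨k, hk⟩
  rw [← hmap] at hx
  obtain ⟨y, hy, e⟩ := hx
  have hz : y⁻¹ * x ∈ f.ker := by simp [MonoidHom.mem_ker, e]
  obtain ⟨j, hj⟩ := hP ⟨y, hy⟩
  have hj' : y ^ p ^ j = 1 := congrArg Subtype.val hj
  have hcomm : Commute y (y⁻¹ * x) := Subgroup.mem_center_iff.1 (hc hz) y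
  have h1 : (y⁻¹ * x) ^ p ^ (j + k) = 1 := by
    have h2 : x ^ p ^ (j + k) = y ^ p ^ (j + k) * (y⁻¹ * x) ^ p ^ (j + k) := by
      rw [← hcomm.mul_pow, mul_inv_cancel_left]
    rw [pow_add, pow_mul y, hj', one_pow, one_mul, mul_comm (p ^ j), pow_mul x, hk, one_pow] at h2
    rw [pow_add, mul_comm (p ^ j)]
    exact h2.symm
  have h2 : (y⁻¹ * x) ^ Nat.card f.ker = 1 :=
    congrArg Subtype.val (pow_card_eq_one' (x := (⟨_, hz⟩ : f.ker)))
  have h3 : y⁻¹ * x = 1 := pow_eq_one_iff_of_coprime (hZ.pow_right _) |>.1 ⟨h2, h1⟩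
  rwa [← inv_mul_eq_one.1 h3]

theorem exists_lift_normalIn [Finite G] {p : ℕ} [Fact p.Prime] {f : G →* G'}
    (hf : Function.Surjective f) (hc : f.ker ≤ Subgroup.center G)
    (hZ : (Nat.card f.ker).Coprime p) {N H : Subgroup G'} (hN : IsPGroup p N)
    (hNH : NormalIn N H) :
    ∃ P : Subgroup G, IsPGroup p P ∧ P.map f = N ∧ NormalIn P (H.comap f) := by
  obtain ⟨P, hP, hmap, h⟩ := exists_lift hf hc hZ hN
  have hle : ∀ x ∈ P, f x ∈ N := fun x hx => hmap ▸ ⟨x, hx, rfl⟩
  refine ⟨P, hP, hmap, fun x hx => hNH.1 (hle x hx), fun a ha x hx => h _ ?_ ?_⟩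
  · simpa using hNH.2 _ ha _ (hle x hx)
  · obtain ⟨k, hk⟩ := hP ⟨x, hx⟩
    have hk' : x ^ p ^ k = 1 := congrArg Subtype.val hk
    exact ⟨k, by rw [conj_pow, hk']; simp⟩

theorem PData.map {p b : ℕ} [Finite G] [Fact p.Prime] {f : G →* G'}
    (hf : Function.Surjective f) (hc : f.ker ≤ Subgroup.center G)
    (hZ : (Nat.card f.ker).Coprime p) {H : Subgroup G} (hker : f.ker ≤ H) (h : PData p b H) :
    PData p b (H.map f) := by
  refine ⟨isCoatom_map_of_surjective hf hker h.coatom, ?_, fun N hN hp => ?_, fun N hN hp => ?_⟩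
  · rw [Subgroup.index_map_eq _ hf hker]
    exact h.index
  · obtain ⟨P, hP, rfl, hPH⟩ := exists_lift_normalIn hf hc hZ hp hN
    rw [Subgroup.comap_map_eq_self hker] at hPH
    rintro _ ⟨x, hx, rfl⟩ _ ⟨y, hy, rfl⟩
    rw [← map_mul, ← map_mul, h.comm P hPH hP x hx y hy]
  · obtain ⟨P, hP, rfl, hPH⟩ := exists_lift_normalIn hf hc hZ hp hN
    rw [Subgroup.comap_map_eq_self hker] at hPH
    exact (Nat.le_of_dvd Nat.card_pos (Subgroup.card_map_dvd P f)).trans (h.card P hPH hP)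

theorem PData.comap {p b : ℕ} [Finite G] {f : G →* G'}
    (hf : Function.Surjective f) (hZ : (Nat.card f.ker).Coprime p) {H : Subgroup G'}
    (h : PData p b H) : PData p b (H.comap f) := by
  have hN : ∀ N : Subgroup G, NormalIn N (H.comap f) → NormalIn (N.map f) H := fun N hN => by
    have := hN.map f
    rwa [Subgroup.map_comap_eq_self_of_surjective hf] at this
  refine ⟨isCoatom_comap_of_surjective hf h.coatom, ?_, fun N hNH hp x hx y hy => ?_,
    fun N hNH hp => ?_⟩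
  · rw [Subgroup.index_comap_of_surjective _ hf]
    exact h.index
  · have h1 := h.comm _ (hN N hNH) (hp.map f) _ ⟨x, hx, rfl⟩ _ ⟨y, hy, rfl⟩
    have h2 : (y * x)⁻¹ * (x * y) = 1 := by
      refine eq_one_of_isPGroup_of_coprime hp hZ
        (N.mul_mem (N.inv_mem (N.mul_mem hy hx)) (N.mul_mem hx hy)) ?_
      rw [MonoidHom.mem_ker, map_mul, map_inv, map_mul, map_mul, h1, inv_mul_cancel]
    exact (inv_mul_eq_one.1 h2).symm
  · refine le_trans ?_ (h.card _ (hN N hNH) (hp.map f))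
    let φ : N →* N.map f := (f.comp N.subtype).codRestrict _ (fun x => ⟨x, x.2, rfl⟩)
    have : Finite (N.map f) := Finite.of_surjective φ (by
      rintro ⟨_, x, hx, rfl⟩
      exact ⟨⟨x, hx⟩, rfl⟩)
    refine Nat.card_le_card_of_injective φ ?_
    rw [injective_iff_map_eq_one]
    intro x hx
    exact Subtype.ext (eq_one_of_isPGroup_of_coprime hp hZ x.2 (congrArg Subtype.val hx))

theorem PData.map_equiv {p b : ℕ} [Finite G] [Fact p.Prime] (e : G ≃* G') {H : Subgroup G}
    (h : PData p b H) : PData p b (H.map e.toMonoidHom) := by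
  have hk : e.toMonoidHom.ker = ⊥ := (MonoidHom.ker_eq_bot_iff _).2 e.injective
  exact h.map e.surjective (by rw [hk]; exact bot_le) (by rw [hk]; simp) (by rw [hk]; exact bot_le)

/-- A subgroup of `p'`-index contains a conjugate of every `p`-subgroup. -/
theorem exists_conj_mem_of_index [Finite G] {p : ℕ} [Fact p.Prime] {H Q : Subgroup G}
    (hH : ¬ p ∣ H.index) (hQ : IsPGroup p Q) : ∃ g : G, ∀ x ∈ Q, g * x * g⁻¹ ∈ H := by
  obtain ⟨y, hy⟩ := hQ.nonempty_fixed_point_of_prime_not_dvd_card (G ⧸ H) hH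
  obtain ⟨g, rfl⟩ := QuotientGroup.mk_surjective y
  refine ⟨g⁻¹, fun x hx => ?_⟩
  have h1 : ((x * g : G) : G ⧸ H) = (g : G ⧸ H) := hy ⟨x, hx⟩
  have h2 := QuotientGroup.eq.1 h1.symm
  simpa [mul_assoc] using h2

end Group

section Linear

variable {Γ F V : Type*} [Group Γ] [Field F] [AddCommGroup V] [Module F V]

/-- The stabiliser of a subspace. -/
def stabSub (ρ : Γ →* Module.End F V) (X : Submodule F V) : Subgroup Γ where
  carrier := {g | ∀ v, ρ g v ∈ X ↔ v ∈ X}
  one_mem' := by simp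
  mul_mem' {a b} ha hb v := by rw [map_mul, Module.End.mul_apply, ha, hb]
  inv_mem' {a} ha v := by
    rw [← ha, ← Module.End.mul_apply, ← map_mul, mul_inv_cancel, map_one, Module.End.one_apply]

theorem mem_stabSub {ρ : Γ →* Module.End F V} {X : Submodule F V} {g : Γ} :
    g ∈ stabSub ρ X ↔ ∀ v, ρ g v ∈ X ↔ v ∈ X := Iff.rfl

theorem rep_inv_apply (ρ : Γ →* Module.End F V) (g : Γ) (v : V) : ρ g⁻¹ (ρ g v) = v := by
  rw [← Module.End.mul_apply, ← map_mul, inv_mul_cancel, map_one, Module.End.one_apply]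

theorem rep_apply_inv (ρ : Γ →* Module.End F V) (g : Γ) (v : V) : ρ g (ρ g⁻¹ v) = v := by
  rw [← Module.End.mul_apply, ← map_mul, mul_inv_cancel, map_one, Module.End.one_apply]

theorem le_stabSub {ρ : Γ →* Module.End F V} {X : Submodule F V} {H : Subgroup Γ}
    (h : ∀ g ∈ H, ∀ v ∈ X, ρ g v ∈ X) : H ≤ stabSub ρ X := by
  intro g hg v
  refine ⟨fun hv => ?_, h g hg v⟩
  have := h _ (H.inv_mem hg) _ hv
  rwa [rep_inv_apply] at this

theorem mem_stabSub_of_finite [Finite Γ] {ρ : Γ →* Module.End F V} {X : Submodule F V} {g : Γ}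
    (h : ∀ v ∈ X, ρ g v ∈ X) : g ∈ stabSub ρ X := by
  refine le_stabSub (H := Subgroup.zpowers g) ?_ (Subgroup.mem_zpowers g)
  intro k hk
  obtain ⟨n, rfl⟩ := (mem_powers_iff_mem_zpowers.2 hk)
  simp only
  induction n with
  | zero => simp
  | succ n ih =>
    intro v hv
    rw [pow_succ, map_mul, Module.End.mul_apply]
    exact ih (Subgroup.pow_mem _ (Subgroup.mem_zpowers g) n) _ (h v hv)

/-- The elements acting trivially on the factors of the chain `0 ≤ X ≤ Y ≤ V`. -/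
def rad (ρ : Γ →* Module.End F V) (X Y : Submodule F V) : Subgroup Γ where
  carrier := {g | (∀ v, ρ g v - v ∈ Y) ∧ (∀ v ∈ Y, ρ g v - v ∈ X) ∧ ∀ v ∈ X, ρ g v = v}
  one_mem' := by simp
  mul_mem' {a b} ha hb := by
    refine ⟨fun v => ?_, fun v hv => ?_, fun v hv => ?_⟩
    · have : ρ (a * b) v - v = (ρ a (ρ b v) - ρ b v) + (ρ b v - v) := by simp
      rw [this]
      exact Y.add_mem (ha.1 _) (hb.1 _)
    · have : ρ (a * b) v - v = (ρ a (ρ b v) - ρ b v) + (ρ b v - v) := by simp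
      rw [this]
      refine X.add_mem (ha.2.1 _ ?_) (hb.2.1 _ hv)
      have := Y.add_mem (hb.1 v) hv
      simpa using this
    · rw [map_mul, Module.End.mul_apply, hb.2.2 v hv, ha.2.2 v hv]
  inv_mem' {a} ha := by
    have h1 : ∀ v, ρ a⁻¹ v - v = -(ρ a (ρ a⁻¹ v) - ρ a⁻¹ v) := fun v => by
      rw [rep_apply_inv, neg_sub]
    have h2 : ∀ v, ρ a⁻¹ v - v ∈ Y := fun v => by rw [h1]; exact Y.neg_mem (ha.1 _)
    refine ⟨h2, fun v hv => ?_, fun v hv => ?_⟩
    · rw [h1]
      refine X.neg_mem (ha.2.1 _ ?_)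
      have := Y.add_mem (h2 v) hv
      simpa using this
    · conv_lhs => rw [← ha.2.2 v hv, rep_inv_apply]

theorem mem_rad {ρ : Γ →* Module.End F V} {X Y : Submodule F V} {g : Γ} :
    g ∈ rad ρ X Y ↔
      (∀ v, ρ g v - v ∈ Y) ∧ (∀ v ∈ Y, ρ g v - v ∈ X) ∧ ∀ v ∈ X, ρ g v = v := Iff.rfl

theorem rad_isPGroup {ρ : Γ →* Module.End F V} (hρ : Function.Injective ρ) (p : ℕ) [Fact p.Prime]
    [CharP F p] (X Y : Submodule F V) : IsPGroup p (rad ρ X Y) := by
  rintro ⟨g, hg⟩
  refine ⟨2, Subtype.ext (hρ ?_)⟩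
  change ρ (g ^ p ^ 2) = ρ 1
  rcases subsingleton_or_nontrivial V with hV | hV
  · exact Subsingleton.elim _ _
  have : CharP (Module.End F V) p :=
    charP_of_injective_algebraMap (algebraMap F (Module.End F V)).injective p
  have h3 : (ρ g - 1) ^ 3 = 0 := by
    ext v
    have h1 := hg.2.2 _ (hg.2.1 _ (hg.1 v))
    simp only [pow_succ, pow_zero, one_mul, Module.End.mul_apply, LinearMap.sub_apply,
      Module.End.one_apply, LinearMap.zero_apply]
    rw [h1, sub_self]
  have h4 : (ρ g - 1) ^ p ^ 2 = 0 := by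
    have hp : 3 ≤ p ^ 2 := by
      have := (Fact.out : p.Prime).two_le
      nlinarith
    exact pow_eq_zero_of_le hp h3
  rw [sub_pow_char_pow_of_commute _ _ (Commute.one_right _), one_pow, sub_eq_zero] at h4
  rw [map_pow, h4, map_one]

theorem rad_normalIn {ρ : Γ →* Module.End F V} {X Y : Submodule F V}
    {H : Subgroup Γ} (hX : H ≤ stabSub ρ X) (hY : H ≤ stabSub ρ Y) (hle : rad ρ X Y ≤ H) :
    NormalIn (rad ρ X Y) H := by
  refine ⟨hle, fun h hh g hg => ?_⟩
  have key : ∀ v, ρ (h * g * h⁻¹) v - v = ρ h (ρ g (ρ h⁻¹ v) - ρ h⁻¹ v) := fun v => by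
    rw [map_sub, rep_apply_inv, map_mul, map_mul, Module.End.mul_apply, Module.End.mul_apply]
  refine ⟨fun v => ?_, fun v hv => ?_, fun v hv => ?_⟩
  · rw [key, hY hh]
    exact hg.1 _
  · rw [key, hX hh]
    exact hg.2.1 _ ((hY (H.inv_mem hh) v).2 hv)
  · rw [← sub_eq_zero, key, hg.2.2 _ ((hX (H.inv_mem hh) v).2 hv), sub_self, map_zero]

theorem rad_le_stabSub {ρ : Γ →* Module.End F V} {X Y : Submodule F V} :
    rad ρ X Y ≤ stabSub ρ X :=
  le_stabSub fun g hg v hv => by rw [hg.2.2 v hv]; exact hv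

end Linear

end CL.AutO
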