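import Cfsg.Agent.AutO.Point
import Cfsg.Agent.Solv.CoreFree

/-!
# Recognising point stabilisers in `Ω`
-/

set_option autoImplicit false

namespace CL.AutO

open QuadraticMap Module CL.Orth
open scoped LinearAlgebra.Projectivization Pointwise

variable {F V : Type*} [Field F] [AddCommGroup V] [Module F V] {Q : QuadraticForm F V}

theorem NormalIn.le_normalizer {G : Type*} [Group G] {N H : Subgroup G} (h : NormalIn N H) :
    H ≤ Subgroup.normalizer (N : Set G) := by
  intro g hg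
  rw [Subgroup.mem_normalizer_iff]
  intro x
  refine ⟨h.2 g hg x, fun hx => ?_⟩
  have := h.2 _ (H.inv_mem hg) _ hx
  simpa [mul_assoc] using this

theorem pow_apply_of_eq_smul {g : O Q} {u : V} {a : F} (h : g.1 u = a • u) (n : ℕ) :
    (g ^ n).1 u = a ^ n • u := by
  induction n with
  | zero => rw [pow_zero, pow_zero, one_smul, O_one_apply]
  | succ n ih => rw [pow_succ, O_mul_apply, h, map_smul, ih, smul_smul, pow_succ']

theorem eq_one_of_pow_char_pow (p : ℕ) [Fact p.Prime] [CharP F p] {a : F} {k : ℕ}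
    (h : a ^ p ^ k = 1) : a = 1 := by
  have : (a - 1) ^ p ^ k = 0 := by rw [sub_pow_char_pow, h, one_pow, sub_self]
  exact sub_eq_zero.1 (pow_eq_zero_iff (pow_ne_zero _ (Fact.out : p.Prime).ne_zero) |>.1 this)

theorem IsHypPair.finrank_perp [FiniteDimensional F V] (hQ : Q.polarBilin.Nondegenerate) {u v : V}
    (h : IsHypPair Q u v) :
    finrank F (perp Q (Submodule.span F {u, v})) + 2 = finrank F V := by
  have := finrank_perp_add hQ (Submodule.span F {u, v})
  rwa [finrank_span_pair h.ne_zero h.not_mem_span] at this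

theorem mem_perp_pair {u v x : V} :
    x ∈ perp Q (Submodule.span F {u, v}) ↔ polar Q u x = 0 ∧ polar Q v x = 0 := by
  rw [mem_perp_span]
  simp

theorem IsHypPair.nondeg_perp [FiniteDimensional F V] (hQ : Q.polarBilin.Nondegenerate) {u v : V}
    (h : IsHypPair Q u v) :
    (QuadF.restr Q (perp Q (Submodule.span F {u, v}))).polarBilin.Nondegenerate :=
  QuadF.nondeg_restr_perp hQ (QuadF.disjoint_perp_pair
    (QuadF.gram_hyperbolic_ne_zero h.1 (by rw [h.3]; exact one_ne_zero)))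

variable [FiniteDimensional F V]

/-- An isometry fixing `u` and acting trivially on `u^⊥/u` is an Eichler transformation. -/
theorem exists_eq_eich (hQ : Q.polarBilin.Nondegenerate) {u : V} (hu : Q u = 0) (hu0 : u ≠ 0)
    {g : O Q} (h1 : g.1 u = u) (h2 : ∀ w, polar Q u w = 0 → g.1 w - w ∈ Submodule.span F {u}) :
    ∃ w, polar Q u w = 0 ∧ g = eich Q u w := by
  obtain ⟨v, hv, huv⟩ := exists_hyp_partner' hQ hu hu0
  have hgv : polar Q u (g.1 v) = 1 := by rw [← huv, ← O_polar g u v, h1]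
  obtain ⟨w0, hw0, e⟩ := exists_eich_apply_eq_smul hu hv (show Q (g.1 v) = 0 by rw [O_map, hv])
    (by rw [huv]; exact one_ne_zero) (by rw [hgv]; exact one_ne_zero)
  rw [huv, hgv, div_one, one_smul] at e
  refine ⟨w0, hw0, O_ext fun x => ?_⟩
  have key : ∀ w, polar Q u w = 0 → polar Q v w = 0 → g.1 w = (eich Q u w0).1 w := by
    intro w hw1 hw2
    obtain ⟨c, hc⟩ := Submodule.mem_span_singleton.1 (h2 w hw1)
    have e1 : polar Q (g.1 v) (g.1 w) = 0 := by rw [O_polar, hw2]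
    have e2 : polar Q (g.1 v) ((eich Q u w0).1 w) = 0 := by rw [← e, O_polar, hw2]
    rw [eich_apply_of_orth_left hu hw0 hw1] at e2 ⊢
    have e3 : g.1 w = w + c • u := by rw [hc]; abel
    rw [e3] at e1 ⊢
    qsimp [polar_comm Q (g.1 v) u, hgv] at e1 e2
    have : c = - polar Q w0 w := by linear_combination e1 - e2
    rw [this]
    module
  have hp : IsHypPair Q u v := ⟨hu, hv, huv⟩
  have hx : x = (x - polar Q v x • u - polar Q u x • v) + polar Q v x • u + polar Q u x • v := by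
    abel
  rw [hx, map_add, map_add, map_smul, map_smul, key _ (hp.polar_left_proj x) (hp.polar_right_proj x),
    h1, map_add, map_add, map_smul, map_smul, eich_apply_self, e]

/-- Every normal `p`-subgroup of a point stabiliser lies in the Eichler group. -/
theorem le_QE_of_normalIn [Finite F] (hQ : Q.polarBilin.Nondegenerate) (h5 : 5 ≤ finrank F V)
    (hI : IndexTwo Q) (p : ℕ) [Fact p.Prime] [CharP F p] {u : V} (hu : Q u = 0) (hu0 : u ≠ 0)
    {N : Subgroup (E Q)} (hN : NormalIn N (stabE Q (Submodule.span F {u}))) (hp : IsPGroup p N) :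
    N ≤ QE Q u := by
  have := finite_E Q
  obtain ⟨v, hv, huv⟩ := exists_hyp_partner' hQ hu hu0
  have hh : IsHypPair Q u v := ⟨hu, hv, huv⟩
  have hne : QE Q u ≠ ⊥ := by
    obtain ⟨w, hw1, hw2⟩ := exists_nonsingular_orth hQ (by omega) hu hu0
    intro e
    have : eE Q u w ∈ (⊥ : Subgroup (E Q)) := e ▸ eE_mem_QE u w
    rw [Subgroup.mem_bot, eE_eq_one_iff hQ hu hu0 hw1] at this
    obtain ⟨c, rfl⟩ := Submodule.mem_span_singleton.1 this
    exact hw2 (by qsimp [hu]; ring)
  have h1 := CL.CF.inf_centralizer_ne_bot (QE Q u) N (QE_isPGroup p u) hne hp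
    (hN.1.trans (QE_normalIn hu0).le_normalizer)
  obtain ⟨⟨s, hs1, hs2⟩, hs0⟩ := (Subgroup.ne_bot_iff_exists_ne_one).1 h1
  obtain ⟨w0, hw0, rfl⟩ := mem_QE.1 hs1
  let W := perp Q (Submodule.span F {u, v})
  have hW : ∀ w : W, polar Q u w = 0 := fun w => (mem_perp_pair.1 w.2).1
  let Y : AddSubgroup W :=
    { carrier := {w | eE Q u w ∈ Subgroup.centralizer (N : Set (E Q))}
      zero_mem' := by
        change eE Q u 0 ∈ Subgroup.centralizer (N : Set (E Q))
        rw [eE_zero]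
        exact one_mem _
      add_mem' := fun {a b} ha hb => by
        change eE Q u (a + b) ∈ Subgroup.centralizer (N : Set (E Q))
        rw [eE_add hu (hW a) (hW b)]
        exact mul_mem ha hb
      neg_mem' := fun {a} ha => by
        change eE Q u (-a) ∈ Subgroup.centralizer (N : Set (E Q))
        rw [eE_neg]
        exact inv_mem ha }
  have hproj : ∀ w, polar Q u w = 0 → w - polar Q v w • u ∈ W := fun w hw =>
    mem_perp_pair.2 ⟨by qsimp [hw, hu]; ring, by qsimp [hh.pol']; ring⟩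
  have heq : ∀ w, eE Q u (w - polar Q v w • u) = eE Q u w := fun w =>
    Subtype.ext (by rw [eE_val, sub_eq_add_neg, ← neg_smul, eich_add_smul_self]; rfl)
  obtain ⟨x, y, hxy, hux, hvx, -, -⟩ := hI.exists_hypPair_orth hQ hh
  have hY : Y = ⊤ := by
    refine addSubgroup_eq_top (IsHypPair.nondeg_perp hQ hh)
      (by have := IsHypPair.finrank_perp hQ hh; omega)
      (e := ⟨x, mem_perp_pair.2 ⟨hux, hvx⟩⟩) hxy.1
      (fun e => hxy.ne_zero (congrArg Subtype.val e)) Y ?_ (y := ⟨_, hproj w0 hw0⟩) ?_ ?_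
    · intro a b ha hab y hy
      rw [QuadF.polar_restr] at hab
      have ha' : Q a = 0 := ha
      have hfix : (eE Q a b).1.1 u = u :=
        eich_apply_of_orth (by rw [polar_comm, hW]) (by rw [polar_comm, hW])
      have hg : eE Q a b ∈ stabE Q (Submodule.span F {u}) :=
        (mem_stabE_span hu0).2 ⟨1, by rw [one_smul, hfix]⟩
      have h2 := eE_conj (eE Q a b) u y
      rw [hfix, eE_val, eich_apply ha' hab] at h2
      rw [QuadF.polar_restr, QuadF.polar_restr, QuadF.restr_apply]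
      change eE Q u (y + polar Q a y • b - polar Q b y • a - (Q b * polar Q a y) • a) ∈
        Subgroup.centralizer (N : Set (E Q))
      rw [← h2]
      intro n hn
      have h3 := hy _ (hN.2 _ (inv_mem hg) n hn)
      rw [inv_inv] at h3
      calc n * (eE Q a b * eE Q u y * (eE Q a b)⁻¹)
          = eE Q a b * ((eE Q a b)⁻¹ * n * eE Q a b * eE Q u y) * (eE Q a b)⁻¹ := by group
        _ = eE Q a b * eE Q u y * (eE Q a b)⁻¹ * n := by rw [h3]; group
    · change eE Q u (w0 - _) ∈ Subgroup.centralizer (N : Set (E Q))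
      rw [heq]
      exact hs2
    · intro e
      apply hs0
      apply Subtype.ext
      change eE Q u w0 = 1
      rw [← heq, show w0 - polar Q v w0 • u = 0 from congrArg Subtype.val e, eE_zero]
  have hcent : ∀ w, polar Q u w = 0 → eE Q u w ∈ Subgroup.centralizer (N : Set (E Q)) := by
    intro w hw
    have : (⟨_, hproj w hw⟩ : W) ∈ Y := by rw [hY]; trivial
    rw [← heq]
    exact this
  intro g hg
  obtain ⟨a, ha⟩ := (mem_stabE_span hu0).1 (hN.1 hg)
  have ha1 : a = 1 := by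
    obtain ⟨k, hk⟩ := hp ⟨g, hg⟩
    have h2 : (g.1 ^ p ^ k) = 1 := congrArg (fun t : N => t.1.1) hk
    have h3 := pow_apply_of_eq_smul ha.symm (p ^ k)
    rw [h2, O_one_apply] at h3
    apply eq_one_of_pow_char_pow p (k := k)
    have h4 : (a ^ p ^ k - 1) • u = 0 := by rw [sub_smul, ← h3, one_smul, sub_self]
    exact sub_eq_zero.1 ((smul_eq_zero.1 h4).resolve_right hu0)
  rw [ha1, one_smul] at ha
  obtain ⟨w, hw, e⟩ := exists_eq_eich hQ hu hu0 ha.symm (fun w hw => by
    have h2 := eE_conj g u w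
    rw [hcent w hw g hg, mul_inv_cancel_right, ← ha] at h2
    exact (eE_eq_iff hQ hu hu0 (by rw [ha, O_polar, hw]) hw).1 h2.symm)
  exact mem_QE.2 ⟨w, hw, Subtype.ext e⟩

theorem card_QE_le [Finite F] (hQ : Q.polarBilin.Nondegenerate) {u : V} (hu : Q u = 0)
    (hu0 : u ≠ 0) : Nat.card (QE Q u) ≤ Nat.card F ^ (finrank F V - 2) := by
  obtain ⟨v, hv, huv⟩ := exists_hyp_partner' hQ hu hu0
  have hh : IsHypPair Q u v := ⟨hu, hv, huv⟩
  have h1 := IsHypPair.finrank_perp hQ hh
  have : Finite V := Module.finite_of_finite F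
  rw [← h1, Nat.add_sub_cancel, ← Module.natCard_eq_pow_finrank]
  refine Nat.card_le_card_of_surjective
    (fun w : perp Q (Submodule.span F {u, v}) => (⟨eE Q u w, eE_mem_QE u w⟩ : QE Q u)) ?_
  rintro ⟨g, hg⟩
  obtain ⟨w, hw, rfl⟩ := mem_QE.1 hg
  refine ⟨⟨w - polar Q v w • u, mem_perp_pair.2
    ⟨by qsimp [hw, hu]; ring, by qsimp [hh.pol']; ring⟩⟩, Subtype.ext (Subtype.ext ?_)⟩
  change eich Q u (w - _) = _
  rw [sub_eq_add_neg, ← neg_smul, eich_add_smul_self]
  rfl

theorem pdata_stabE_span [Finite F] (hQ : Q.polarBilin.Nondegenerate) (h5 : 5 ≤ finrank F V)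
    (hI : IndexTwo Q) (p : ℕ) [Fact p.Prime] [CharP F p] {u : V} (hu : Q u = 0) (hu0 : u ≠ 0) :
    PData p (Nat.card F ^ (finrank F V - 2)) (stabE Q (Submodule.span F {u})) := by
  have := finite_E Q
  refine ⟨isCoatom_stabE_span hQ h5 hu hu0, ?_, fun N hN hp x hx y hy => ?_, fun N hN hp => ?_⟩
  · rw [index_stabE_span hQ (by omega) hu hu0]
    exact not_dvd_card_singPts hQ (by omega) p hu hu0
  · obtain ⟨w, -, rfl⟩ := mem_QE.1 (le_QE_of_normalIn hQ h5 hI p hu hu0 hN hp hx)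
    obtain ⟨w', -, rfl⟩ := mem_QE.1 (le_QE_of_normalIn hQ h5 hI p hu hu0 hN hp hy)
    exact eE_comm u w w'
  · exact (Subgroup.card_le_of_le (le_QE_of_normalIn hQ h5 hI p hu hu0 hN hp)).trans
      (card_QE_le hQ hu hu0)

/-- A proper subgroup of `p'`-index stabilises a non-zero totally singular subspace. -/
theorem exists_le_stabE [Finite F] (hQ : Q.polarBilin.Nondegenerate) (h3 : 3 ≤ finrank F V)
    (p : ℕ) [Fact p.Prime] [CharP F p] {e : V} (he : Q e = 0) (he0 : e ≠ 0) {H : Subgroup (E Q)}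
    (hH : H ≠ ⊤) (hp : ¬ p ∣ H.index) :
    ∃ X : Submodule F V, X ≠ ⊥ ∧ (∀ x ∈ X, Q x = 0) ∧ H ≤ stabE Q X := by
  have := finite_E Q
  obtain ⟨g, hg⟩ := exists_conj_mem_of_index hp (QE_isPGroup (Q := Q) p e)
  let S : Set V := {z | Q z = 0 ∧ z ≠ 0 ∧ QE Q z ≤ H}
  have hS : g.1.1 e ∈ S := by
    refine ⟨by rw [O_map, he], (O_apply_eq_zero_iff _ _).not.2 he0, fun k hk => ?_⟩
    have : g⁻¹ * k * g ∈ QE Q e := by
      rw [← conj_mem_QE_iff g]
      simpa [mul_assoc] using hk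
    simpa [mul_assoc] using hg _ this
  refine ⟨Submodule.span F S, fun h => ?_, QuadF.ts_span (fun x hx => hx.1) ?_, le_stabSub ?_⟩
  · have := Submodule.subset_span (R := F) hS
    rw [h] at this
    exact hS.2.1 this
  · intro x hx y hy
    by_contra hxy
    exact hH (eq_top_of_QE_le hQ h3 hx.1 hy.1 hxy hx.2.2 hy.2.2)
  · intro h hh v hv
    have : (Submodule.span F S).map (repE Q h) ≤ Submodule.span F S := by
      rw [Submodule.map_span_le]
      intro z hz
      exact Submodule.subset_span ⟨by rw [repE_apply, O_map, hz.1],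
        (O_apply_eq_zero_iff _ _).not.2 hz.2.1, QE_le_of_conj hh hz.2.2⟩
    exact this ⟨v, hv, rfl⟩

omit [FiniteDimensional F V] in
theorem stabE_le_stabE_perp (X : Submodule F V) : stabE Q X ≤ stabE Q (perp Q X) := by
  refine le_stabSub fun g hg v hv => mem_perp.2 fun s hs => ?_
  rw [repE_apply, O_polar_right]
  exact mem_perp.1 hv _ (((stabE Q X).inv_mem hg s).2 hs)

omit [FiniteDimensional F V] in
theorem eE_mem_rad {X : Submodule F V} (hX : ∀ x ∈ X, Q x = 0) {x w : V} (hx : x ∈ X)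
    (hw : w ∈ perp Q X) : eE Q x w ∈ rad (repE Q) X (perp Q X) := by
  have hle : X ≤ perp Q X := QuadF.le_perp_of_ts hX
  have h1 := hX x hx
  have h2 := mem_perp.1 hw x hx
  refine ⟨fun v => ?_, fun v hv => ?_, fun v hv => ?_⟩
  · rw [repE_apply, eE_val, eich_apply h1 h2]
    have : v + polar Q x v • w - polar Q w v • x - (Q w * polar Q x v) • x - v =
        polar Q x v • w - (polar Q w v + Q w * polar Q x v) • x := by module
    rw [this]
    exact Submodule.sub_mem _ (Submodule.smul_mem _ _ hw) (Submodule.smul_mem _ _ (hle hx))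
  · rw [repE_apply, eE_val, eich_apply_of_orth_left h1 h2 (mem_perp.1 hv x hx)]
    simpa using X.smul_mem _ hx
  · exact eich_apply_of_orth (mem_perp.1 (hle hv) x hx) (by rw [polar_comm]; exact mem_perp.1 hw v hv)

theorem finrank_le_inf_ker_add_one (S : Submodule F V) (f : V →ₗ[F] F) :
    finrank F S ≤ finrank F (S ⊓ LinearMap.ker f : Submodule F V) + 1 := by
  by_cases h : ∃ y ∈ S, f y ≠ 0
  · obtain ⟨y, hy, hf⟩ := h
    exact (finrank_eq_inf_ker_add_one S f hy hf).le
  · push Not at h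
    rw [inf_eq_left.2 (show S ≤ LinearMap.ker f from h)]
    omega

theorem exists_mem_notMem_of_finrank_lt {X Y : Submodule F V} (h : finrank F Y < finrank F X) :
    ∃ x ∈ X, x ∉ Y := by
  by_contra hh
  push Not at hh
  exact absurd (Submodule.finrank_mono (show X ≤ Y from hh)) (not_le.2 h)

omit [FiniteDimensional F V] in
theorem finrank_span_singleton_le (u : V) : finrank F (Submodule.span F {u}) ≤ 1 := by
  simpa using finrank_span_le_card (R := F) ({u} : Set V)

/-- The subgroups of `Ω` that look like point stabilisers. -/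
theorem eq_stabE_of_pdata [Finite F] (hQ : Q.polarBilin.Nondegenerate) (h3 : 3 ≤ finrank F V)
    (p : ℕ) [Fact p.Prime] [CharP F p] {e : V} (he : Q e = 0) (he0 : e ≠ 0) {H : Subgroup (E Q)}
    (h : PData p (Nat.card F ^ (finrank F V - 2)) H) :
    ∃ X : Submodule F V, (∀ x ∈ X, Q x = 0) ∧ H = stabE Q X ∧
      (finrank F X = 1 ∨ (2 * finrank F X = finrank F V ∧ finrank F X ≤ 4)) := by
  have := finite_E Q
  have : Finite V := Module.finite_of_finite F
  obtain ⟨X, hX0, hX, hle⟩ := exists_le_stabE hQ h3 p he he0 h.coatom.1 h.index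
  have hX1 : X ≠ ⊤ := by
    rintro rfl
    obtain ⟨w, -, hw⟩ := exists_nonsingular_orth hQ h3 he he0
    exact hw (hX w trivial)
  have hH : H = stabE Q X := by
    by_contra hne
    exact stabE_ne_top hQ h3 he he0 hX0 hX1 (h.coatom.2 _ (lt_of_le_of_ne hle hne))
  refine ⟨X, hX, hH, ?_⟩
  by_cases hk : finrank F X = 1
  · exact Or.inl hk
  right
  have hk0 : finrank F X ≠ 0 := fun e => hX0 (Submodule.finrank_eq_zero.1 e)
  have hN : NormalIn (rad (repE Q) X (perp Q X)) H :=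
    rad_normalIn hH.le (hH.le.trans (stabE_le_stabE_perp X)) (rad_le_stabSub.trans hH.ge)
  have hNp := rad_isPGroup (repE_injective (Q := Q)) p X (perp Q X)
  have hXp : X ≤ perp Q X := QuadF.le_perp_of_ts hX
  have hXX : ∀ x ∈ X, ∀ y ∈ X, polar Q x y = 0 := fun x hx y hy => mem_perp.1 (hXp hy) x hx
  obtain ⟨x3, hx3, hx30⟩ := Submodule.exists_mem_ne_zero_of_ne_bot hX0
  obtain ⟨x2, hx2, hx23⟩ := exists_mem_notMem_of_finrank_lt (X := X)
    (Y := Submodule.span F {x3}) (by have := finrank_span_singleton_le (F := F) x3; omega)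
  have hperp : perp Q X = X := by
    refine le_antisymm ?_ hXp
    conv_rhs => rw [← perp_perp hQ X]
    intro w2 hw2
    refine mem_perp.2 fun w1 hw1 => ?_
    have h1 := h.comm _ hN hNp _ (eE_mem_rad hX hx2 hw1) _ (eE_mem_rad hX hx3 hw2)
    have h2 := eE_conj (eE Q x2 w1) x3 w2
    rw [h1, mul_inv_cancel_right, eE_val, eich_apply_of_orth (hXX _ hx2 _ hx3)
      (by rw [polar_comm]; exact mem_perp.1 hw1 _ hx3), eich_apply_of_orth_left (hX _ hx2)
      (mem_perp.1 hw1 _ hx2) (mem_perp.1 hw2 _ hx2)] at h2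
    have h3 := (eE_eq_iff hQ (hX _ hx3) hx30 (mem_perp.1 hw2 _ hx3)
      (by qsimp [mem_perp.1 hw2 _ hx3, hXX _ hx3 _ hx2]; ring)).1 h2
    rw [sub_sub_cancel] at h3
    by_contra h4
    exact hx23 ((Submodule.smul_mem_iff _ h4).1 h3)
  have hn : 2 * finrank F X = finrank F V := by
    have := finrank_perp_add hQ X
    rw [hperp] at this
    omega
  refine ⟨hn, ?_⟩
  by_contra hk4
  obtain ⟨x1, hx1, hx123⟩ := exists_mem_notMem_of_finrank_lt (X := X)
    (Y := Submodule.span F {x2, x3}) (by have := finrank_span_pair_le (F := F) x2 x3; omega)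
  obtain ⟨y1, hy1, hy11⟩ := exists_polar_eq_one_span hQ hx123
  have hy12 : polar Q x2 y1 = 0 := hy1 _ (by simp)
  have hy13 : polar Q x3 y1 = 0 := hy1 _ (by simp)
  obtain ⟨y2, hy2, hy22⟩ := exists_polar_eq_one_span hQ hx23
  have hy23 : polar Q x3 y2 = 0 := hy2 _ (by simp)
  obtain ⟨y3, -, hy33⟩ := exists_polar_eq_one hQ (S := ⊥) (x := x3) (by simpa using hx30)
  let A1 := X ⊓ LinearMap.ker (Q.polarBilin y1)
  let A2 := A1 ⊓ LinearMap.ker (Q.polarBilin y2)
  let A3 := A2 ⊓ LinearMap.ker (Q.polarBilin y3)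
  have d1 := finrank_le_inf_ker_add_one X (Q.polarBilin y1)
  have d2 := finrank_le_inf_ker_add_one A1 (Q.polarBilin y2)
  have d3 := finrank_le_inf_ker_add_one A2 (Q.polarBilin y3)
  let φ : A1 × A2 × A3 → rad (repE Q) X (perp Q X) := fun t =>
    ⟨eE Q x1 t.1 * eE Q x2 t.2.1 * eE Q x3 t.2.2, mul_mem (mul_mem
      (eE_mem_rad hX hx1 (hXp t.1.2.1)) (eE_mem_rad hX hx2 (hXp t.2.1.2.1.1)))
      (eE_mem_rad hX hx3 (hXp t.2.2.2.1.1.1))⟩
  have hev : ∀ a ∈ X, ∀ b ∈ X, ∀ c ∈ X, ∀ v, (eE Q x1 a * eE Q x2 b * eE Q x3 c).1.1 v =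
      v + (polar Q x1 v • a - polar Q a v • x1) + (polar Q x2 v • b - polar Q b v • x2)
        + (polar Q x3 v • c - polar Q c v • x3) := by
    intro a ha b hb c hc v
    change (eich Q x1 a).1 ((eich Q x2 b).1 ((eich Q x3 c).1 v)) = _
    rw [eich_apply (hX _ hx1) (hXX _ hx1 _ ha), eich_apply (hX _ hx2) (hXX _ hx2 _ hb),
      eich_apply (hX _ hx3) (hXX _ hx3 _ hc)]
    qsimp [hX _ ha, hX _ hb, hX _ hc, hXX _ hx1 _ hb, hXX _ hx1 _ hc, hXX _ hx1 _ hx2,
      hXX _ hx1 _ hx3, hXX _ hx2 _ hc, hXX _ hx2 _ hx3, hXX _ ha _ hb, hXX _ ha _ hc,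
      hXX _ ha _ hx2, hXX _ ha _ hx3, hXX _ hb _ hc, hXX _ hb _ hx3]
    module
  have hφ : Function.Injective φ := by
    rintro ⟨⟨a, ha, ha1⟩, ⟨b, ⟨hb, hb1⟩, hb2⟩, ⟨c, ⟨⟨hc, hc1⟩, hc2⟩, hc3⟩⟩
      ⟨⟨a', ha', ha1'⟩, ⟨b', ⟨hb', hb1'⟩, hb2'⟩, ⟨c', ⟨⟨hc', hc1'⟩, hc2'⟩, hc3'⟩⟩ e
    have e' : ∀ v, (eE Q x1 a * eE Q x2 b * eE Q x3 c).1.1 v =
        (eE Q x1 a' * eE Q x2 b' * eE Q x3 c').1.1 v := fun v =>
      congrArg (fun t : rad (repE Q) X (perp Q X) => t.1.1.1 v) e
    simp only [SetLike.mem_coe, LinearMap.mem_ker, polarBilin_apply_apply] at ha1 hb1 hb2 hc1 hc2 hc3 ha1' hb1' hb2' hc1' hc2' hc3'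
    rw [polar_comm] at ha1 hb1 hb2 hc1 hc2 hc3 ha1' hb1' hb2' hc1' hc2' hc3'
    have e1 := e' y1
    have e2 := e' y2
    have e3 := e' y3
    rw [hev a ha b hb c hc, hev a' ha' b' hb' c' hc'] at e1 e2 e3
    simp only [hy11, hy12, hy13, hy22, hy23, hy33, ha1, hb1, hb2, hc1, hc2, hc3, ha1', hb1', hb2',
      hc1', hc2', hc3', one_smul, zero_smul, sub_zero, add_zero, add_right_inj] at e1 e2 e3
    subst e1
    rw [add_right_inj] at e2
    subst e2
    rw [add_right_inj] at e3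
    subst e3
    rfl
  have hc := (Nat.card_le_card_of_injective φ hφ).trans (h.card _ hN hNp)
  rw [Nat.card_prod, Nat.card_prod, Module.natCard_eq_pow_finrank (K := F) (V := A1),
    Module.natCard_eq_pow_finrank (K := F) (V := A2),
    Module.natCard_eq_pow_finrank (K := F) (V := A3), ← pow_add, ← pow_add,
    Nat.pow_le_pow_iff_right Finite.one_lt_card] at hc
  change finrank F X ≤ finrank F A1 + 1 at d1
  change finrank F A1 ≤ finrank F A2 + 1 at d2
  change finrank F A2 ≤ finrank F A3 + 1 at d3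
  omega

end CL.AutO
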