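import Cfsg.Agent.AutO.PData
import Cfsg.Agent.Orth.Simple
import Cfsg.Agent.QuadF.Index

/-!
# Point stabilisers and Eichler groups in `Ω`
-/

set_option autoImplicit false

namespace CL.AutO

open QuadraticMap Module CL.Orth
open scoped LinearAlgebra.Projectivization Pointwise

variable {F V : Type*} [Field F] [AddCommGroup V] [Module F V] {Q : QuadraticForm F V}

/-- The natural representation of the orthogonal group. -/
def repO (Q : QuadraticForm F V) : O Q →* Module.End F V where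
  toFun g := (g.1 : V →ₗ[F] V)
  map_one' := rfl
  map_mul' _ _ := rfl

/-- The natural representation of `Ω`. -/
def repE (Q : QuadraticForm F V) : E Q →* Module.End F V := (repO Q).comp (E Q).subtype

theorem repE_apply (g : E Q) (v : V) : repE Q g v = g.1.1 v := rfl

theorem repE_injective : Function.Injective (repE Q) := fun _ _ h =>
  Subtype.ext (O_ext fun x => LinearMap.congr_fun h x)

theorem finite_O [Finite F] [FiniteDimensional F V] (Q : QuadraticForm F V) : Finite (O Q) := by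
  have : Finite V := Module.finite_of_finite F
  have : Finite (V ≃ₗ[F] V) := DFunLike.finite _
  infer_instance

theorem finite_E [Finite F] [FiniteDimensional F V] (Q : QuadraticForm F V) : Finite (E Q) := by
  have := finite_O Q
  infer_instance

/-- Eichler transformation as an element of `Ω`. -/
noncomputable def eE (Q : QuadraticForm F V) (u w : V) : E Q := ⟨eich Q u w, eich_mem_E u w⟩

theorem eE_val (u w : V) : (eE Q u w).1 = eich Q u w := rfl

theorem eE_conj (g : E Q) (u w : V) : g * eE Q u w * g⁻¹ = eE Q (g.1.1 u) (g.1.1 w) :=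
  Subtype.ext (eich_conj g.1 u w)

theorem eE_add {u w w' : V} (hu : Q u = 0) (hw : polar Q u w = 0) (hw' : polar Q u w' = 0) :
    eE Q u (w + w') = eE Q u w * eE Q u w' := Subtype.ext (eich_add hu hw hw')

theorem eE_zero (u : V) : eE Q u 0 = 1 := Subtype.ext (eich_zero u)

theorem eE_neg (u w : V) : eE Q u (-w) = (eE Q u w)⁻¹ := Subtype.ext (eich_neg u w)

theorem eE_comm (u w w' : V) : eE Q u w * eE Q u w' = eE Q u w' * eE Q u w :=
  Subtype.ext (eich_comm u w w')

/-- The Eichler group of `u` as a subgroup of `Ω`. -/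
def QE (Q : QuadraticForm F V) (u : V) : Subgroup (E Q) := (eichGrp Q u).subgroupOf (E Q)

theorem mem_QE {u : V} {g : E Q} : g ∈ QE Q u ↔ ∃ w, polar Q u w = 0 ∧ g = eE Q u w := by
  simp only [QE, Subgroup.mem_subgroupOf, mem_eichGrp, Subtype.ext_iff, eE_val]

theorem eE_mem_QE (u w : V) : eE Q u w ∈ QE Q u := eich_mem_eichGrp u w

theorem QE_smul {a : F} (ha : a ≠ 0) (u : V) : QE Q (a • u) = QE Q u := by
  rw [QE, eichGrp_smul ha, QE]

theorem conj_mem_QE_iff (g k : E Q) (u : V) : g * k * g⁻¹ ∈ QE Q (g.1.1 u) ↔ k ∈ QE Q u :=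
  conj_mem_eichGrp_iff g.1 k.1 u

theorem QE_le_of_conj {K : Subgroup (E Q)} {g : E Q} (hg : g ∈ K) {u : V} (h : QE Q u ≤ K) :
    QE Q (g.1.1 u) ≤ K := by
  intro k hk
  have : g⁻¹ * k * g ∈ QE Q u := by
    rw [← conj_mem_QE_iff g]
    simpa [mul_assoc] using hk
  have h2 := K.mul_mem (K.mul_mem hg (h this)) (K.inv_mem hg)
  simpa [mul_assoc] using h2

theorem eE_pow (u w : V) (n : ℕ) : eE Q u w ^ n = eE Q u (n • w) := by
  by_cases h : Q u = 0 ∧ polar Q u w = 0
  · induction n with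
    | zero => rw [pow_zero, zero_smul, eE_zero]
    | succ n ih =>
      rw [pow_succ, ih, succ_nsmul, eE_add h.1 _ h.2]
      rw [← Nat.cast_smul_eq_nsmul F, polar_smul_right', h.2, mul_zero]
  · have h1 : eE Q u w = 1 := Subtype.ext (eich_of_not h)
    rw [h1, one_pow]
    by_cases hn : (n : F) = 0
    · rw [← Nat.cast_smul_eq_nsmul F, hn, zero_smul, eE_zero]
    · refine Subtype.ext (eich_of_not fun h' => h ⟨h'.1, ?_⟩).symm
      have := h'.2
      rw [← Nat.cast_smul_eq_nsmul F, polar_smul_right'] at this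
      exact (mul_eq_zero.1 this).resolve_left hn

theorem QE_isPGroup (p : ℕ) [CharP F p] (u : V) : IsPGroup p (QE Q u) := by
  rintro ⟨g, hg⟩
  obtain ⟨w, -, rfl⟩ := mem_QE.1 hg
  refine ⟨1, Subtype.ext ?_⟩
  change eE Q u w ^ p ^ 1 = 1
  rw [pow_one, eE_pow, ← Nat.cast_smul_eq_nsmul F, CharP.cast_eq_zero, zero_smul, eE_zero]

/-- The stabiliser in `Ω` of a subspace. -/
abbrev stabE (Q : QuadraticForm F V) (X : Submodule F V) : Subgroup (E Q) := stabSub (repE Q) X

theorem mem_stabE_span {u : V} {g : E Q} (hu : u ≠ 0) :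
    g ∈ stabE Q (Submodule.span F {u}) ↔ ∃ a : F, a • u = g.1.1 u := by
  constructor
  · intro h
    exact Submodule.mem_span_singleton.1 ((h u).2 (Submodule.mem_span_singleton_self u))
  · rintro ⟨a, ha⟩ v
    have ha0 : a ≠ 0 := by
      rintro rfl
      rw [zero_smul] at ha
      exact hu ((O_apply_eq_zero_iff g.1 u).1 ha.symm)
    simp only [Submodule.mem_span_singleton, repE_apply]
    constructor
    · rintro ⟨c, hc⟩
      refine ⟨c * a⁻¹, g.1.1.injective ?_⟩
      rw [map_smul, ← ha, smul_smul, mul_assoc, inv_mul_cancel₀ ha0, mul_one, hc]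
    · rintro ⟨c, rfl⟩
      exact ⟨c * a, by rw [map_smul, ← ha, smul_smul]⟩

theorem stabE_span_eq {u : V} (hu0 : u ≠ 0) (hu : Q u = 0) :
    stabE Q (Submodule.span F {u}) = MulAction.stabilizer (E Q) (pt u hu0 hu) := by
  ext g
  rw [mem_stabE_span hu0, MulAction.mem_stabilizer_iff]
  exact (smul_pt_eq_iff g.1 hu0 hu hu0 hu).symm

theorem QE_normalIn {u : V} (hu0 : u ≠ 0) :
    NormalIn (QE Q u) (stabE Q (Submodule.span F {u})) := by
  refine ⟨fun g hg => ?_, fun h hh g hg => ?_⟩
  · obtain ⟨w, -, rfl⟩ := mem_QE.1 hg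
    exact (mem_stabE_span hu0).2 ⟨1, by rw [one_smul, eE_val, eich_apply_self]⟩
  · obtain ⟨a, ha⟩ := (mem_stabE_span hu0).1 hh
    have ha0 : a ≠ 0 := by
      rintro rfl
      rw [zero_smul] at ha
      exact hu0 ((O_apply_eq_zero_iff h.1 u).1 ha.symm)
    rw [← QE_smul ha0, ha, conj_mem_QE_iff]
    exact hg

variable [FiniteDimensional F V]

theorem eich_eq_one_iff (hQ : Q.polarBilin.Nondegenerate) {u w : V} (hu : Q u = 0) (hu0 : u ≠ 0)
    (huw : polar Q u w = 0) : eich Q u w = 1 ↔ w ∈ Submodule.span F {u} := by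
  constructor
  · intro h
    obtain ⟨v, -, hv⟩ := exists_hyp_partner' hQ hu hu0
    have h1 : (eich Q u w).1 v = v := by rw [h]; rfl
    rw [eich_apply hu huw, hv] at h1
    refine Submodule.mem_span_singleton.2 ⟨polar Q w v + Q w, ?_⟩
    linear_combination (norm := module) -h1
  · intro h
    obtain ⟨a, rfl⟩ := Submodule.mem_span_singleton.1 h
    exact eich_smul_self u a

theorem eE_eq_one_iff (hQ : Q.polarBilin.Nondegenerate) {u w : V} (hu : Q u = 0) (hu0 : u ≠ 0)
    (huw : polar Q u w = 0) : eE Q u w = 1 ↔ w ∈ Submodule.span F {u} := by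
  rw [← eich_eq_one_iff hQ hu hu0 huw, Subtype.ext_iff]
  rfl

theorem eE_eq_iff (hQ : Q.polarBilin.Nondegenerate) {u w w' : V} (hu : Q u = 0) (hu0 : u ≠ 0)
    (huw : polar Q u w = 0) (huw' : polar Q u w' = 0) :
    eE Q u w = eE Q u w' ↔ w - w' ∈ Submodule.span F {u} := by
  rw [← eE_eq_one_iff hQ hu hu0 (by rw [polar_sub_right, huw, huw', sub_zero]), sub_eq_add_neg,
    eE_add hu huw (by rw [polar_neg_right, huw', neg_zero]), eE_neg, mul_inv_eq_one]

/-- A singular point fixed by the Eichler group of `u` is the point of `u`. -/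
theorem mem_span_of_fixed (hQ : Q.polarBilin.Nondegenerate) (h3 : 3 ≤ finrank F V) {u x : V}
    (hu : Q u = 0) (hu0 : u ≠ 0) (hx : Q x = 0)
    (h : ∀ w, polar Q u w = 0 → ∃ c : F, c • x = (eich Q u w).1 x) :
    x ∈ Submodule.span F {u} := by
  by_contra hxu
  by_cases hux : polar Q u x = 0
  · obtain ⟨w, hw1, hw2⟩ := exists_polar_eq_one hQ hxu
    have hw := hw1 u (Submodule.mem_span_singleton_self u)
    obtain ⟨c, hc⟩ := h w hw
    rw [eich_apply_of_orth_left hu hw hux, polar_comm, hw2, one_smul] at hc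
    have h1 : u = (1 - c) • x := by linear_combination (norm := module) hc
    have h2 : (1 - c) ≠ 0 := by
      intro e
      rw [e, zero_smul] at h1
      exact hu0 h1
    exact hxu (Submodule.mem_span_singleton.2 ⟨(1 - c)⁻¹, by
      rw [h1, smul_smul, inv_mul_cancel₀ h2, one_smul]⟩)
  · obtain ⟨w, h1, h2, h3⟩ := (isHypPair_inv_smul hu hx hux).exists_nonsingular hQ h3
    rw [polar_smul_left', mul_eq_zero] at h2
    have h2' : polar Q x w = 0 := h2.resolve_left (inv_ne_zero hux)
    obtain ⟨c, hc⟩ := h w h1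
    have h4 := congrArg (polar Q x) hc
    rw [eich_apply hu h1] at h4
    qsimp [hx, h2', polar_comm Q w x, polar_comm Q x u] at h4
    apply mul_ne_zero (mul_ne_zero h3 hux) hux
    linear_combination h4

/-- An additive subgroup invariant under all Eichler transformations is trivial or everything. -/
theorem addSubgroup_eq_top (hQ : Q.polarBilin.Nondegenerate) (h3 : 3 ≤ finrank F V) {e : V}
    (he : Q e = 0) (he0 : e ≠ 0) (Y : AddSubgroup V)
    (hY : ∀ u w, Q u = 0 → polar Q u w = 0 → ∀ y ∈ Y,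
      y + polar Q u y • w - polar Q w y • u - (Q w * polar Q u y) • u ∈ Y)
    {y : V} (hy : y ∈ Y) (hy0 : y ≠ 0) : Y = ⊤ := by
  have step : ∀ u y, Q u = 0 → y ∈ Y → polar Q u y = 1 → ∀ w, polar Q u w = 0 → w ∈ Y := by
    intro u y hu hy huy
    have hu0 : u ≠ 0 := by rintro rfl; simp at huy
    have h1 : ∀ w, polar Q u w = 0 → w - (polar Q w y + Q w) • u ∈ Y := by
      intro w hw
      have := Y.sub_mem (hY u w hu hw y hy) hy
      rw [huy] at this
      convert this using 1
      module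
    obtain ⟨v, hv, huv⟩ := exists_hyp_partner' hQ hu hu0
    obtain ⟨a, ha1, ha2, ha3⟩ := IsHypPair.exists_nonsingular hQ ⟨hu, hv, huv⟩ h3
    obtain ⟨b, hb1, -, hb3⟩ := IsHypPair.exists_orth hQ ⟨hu, hv, huv⟩
      (by rintro rfl; simp at ha3) ha1 ha2
    have h2 : ∀ c : F, c • u ∈ Y := by
      intro c
      have hcb : polar Q u (c • b) = 0 := by rw [polar_smul_right', hb1, mul_zero]
      have := Y.sub_mem (Y.add_mem (h1 a ha1) (h1 _ hcb))
        (h1 (a + c • b) (by rw [polar_add_right, ha1, hcb, add_zero]))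
      convert this using 1
      qsimp [hb3]
      module
    intro w hw
    have := Y.add_mem (h1 w hw) (h2 (polar Q w y + Q w))
    simpa using this
  obtain ⟨u, hu, huy⟩ : ∃ u, Q u = 0 ∧ polar Q u y = 1 := by
    have : ∃ u, Q u = 0 ∧ polar Q u y ≠ 0 := by
      by_contra hh
      push Not at hh
      apply hy0
      apply eq_zero_of_polar hQ
      intro z
      have hz : z ∈ Submodule.span F {v | Q v = 0} := by
        rw [QuadF.span_singular_eq_top hQ he0 he]; trivial
      have : y ∈ perp Q (Submodule.span F {v | Q v = 0}) := mem_perp_span.2 hh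
      rw [polar_comm]
      exact mem_perp.1 this z hz
    obtain ⟨u, hu, huy⟩ := this
    exact ⟨(polar Q u y)⁻¹ • u, by qsimp [hu]; ring, by
      rw [polar_smul_left', inv_mul_cancel₀ huy]⟩
  have hu0 : u ≠ 0 := by rintro rfl; simp at huy
  obtain ⟨v, hv, huv⟩ := exists_hyp_partner' hQ hu hu0
  have h1 := step u y hu hy huy
  have h2 := step v u hv (h1 u (by qsimp [hu]; ring)) (by rw [polar_comm, huv])
  rw [eq_top_iff]
  intro x _
  have := Y.add_mem (h1 (x - polar Q u x • v) (by qsimp [huv]; ring))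
    (h2 (polar Q u x • v) (by qsimp [hv]; ring))
  simpa using this

theorem stabE_ne_top (hQ : Q.polarBilin.Nondegenerate) (h3 : 3 ≤ finrank F V) {e : V}
    (he : Q e = 0) (he0 : e ≠ 0) {X : Submodule F V} (h0 : X ≠ ⊥) (h1 : X ≠ ⊤) :
    stabE Q X ≠ ⊤ := by
  intro h
  obtain ⟨y, hy, hy0⟩ := Submodule.exists_mem_ne_zero_of_ne_bot h0
  have := addSubgroup_eq_top hQ h3 he he0 X.toAddSubgroup (fun u w hu hw y hy => by
    have h2 : eE Q u w ∈ stabE Q X := by rw [h]; trivial
    have h3 := (h2 y).2 hy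
    rwa [repE_apply, eE_val, eich_apply hu hw] at h3) hy hy0
  apply h1
  rw [eq_top_iff]
  intro x _
  have hx : x ∈ X.toAddSubgroup := by rw [this]; trivial
  exact hx

/-- Two Eichler groups of non-perpendicular points generate `Ω`. -/
theorem eq_top_of_QE_le (hQ : Q.polarBilin.Nondegenerate) (h3 : 3 ≤ finrank F V) {x y : V}
    (hx : Q x = 0) (hy : Q y = 0) (hxy : polar Q x y ≠ 0) {K : Subgroup (E Q)}
    (hxK : QE Q x ≤ K) (hyK : QE Q y ≤ K) : K = ⊤ := by
  have step : ∀ a b c, Q a = 0 → Q b = 0 → Q c = 0 → polar Q a b ≠ 0 → polar Q a c ≠ 0 →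
      QE Q a ≤ K → QE Q b ≤ K → QE Q c ≤ K := by
    intro a b c ha hb hc hab hac haK hbK
    obtain ⟨w, -, hw⟩ := exists_eich_apply_eq_smul ha hb hc hab hac
    have := QE_le_of_conj (haK (eE_mem_QE a w)) hbK
    rwa [eE_val, hw, QE_smul (div_ne_zero hab hac)] at this
  have hx0 : x ≠ 0 := by rintro rfl; simp at hxy
  have all : ∀ z, Q z = 0 → z ≠ 0 → QE Q z ≤ K := by
    intro z hz hz0
    obtain ⟨t, ht, hxt, hzt⟩ := exists_singular_nonorth hQ h3 hx hx0 hz hz0
    exact step t x z ht hx hz (by rwa [polar_comm]) (by rwa [polar_comm])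
      (step x y t hx hy ht hxy hxt hxK hyK) hxK
  have hE : E Q ≤ K.map (E Q).subtype := by
    apply E_le
    intro u w hu _
    by_cases hu0 : u = 0
    · rw [hu0, eich_zero_left]
      exact one_mem _
    · exact ⟨eE Q u w, all u hu hu0 (eE_mem_QE u w), rfl⟩
  rw [eq_top_iff]
  intro g _
  obtain ⟨k, hk, e⟩ := hE g.2
  rwa [← show k = g from Subtype.ext e]

theorem not_dvd_card_singPts [Finite F] (hQ : Q.polarBilin.Nondegenerate) (h3 : 3 ≤ finrank F V)
    (p : ℕ) [Fact p.Prime] [CharP F p] {u : V} (hu : Q u = 0) (hu0 : u ≠ 0) :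
    ¬ p ∣ Nat.card (singPts Q) := by
  have : Finite V := Module.finite_of_finite F
  have := finite_E Q
  have h1 := (QE_isPGroup (Q := Q) p u).card_modEq_card_fixedPoints (singPts Q)
  have h2 : MulAction.fixedPoints (QE Q u) (singPts Q) = {pt u hu0 hu} := by
    ext z
    obtain ⟨x, hx0, hx, rfl⟩ := exists_pt z
    rw [Set.mem_singleton_iff, pt_eq_pt_iff, ← Submodule.mem_span_singleton]
    constructor
    · intro h
      refine mem_span_of_fixed hQ h3 hu hu0 hx fun w _ => ?_
      exact (smul_pt_eq_iff _ hx0 hx hx0 hx).1 (h ⟨eE Q u w, eE_mem_QE u w⟩)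
    · rintro h ⟨g, hg⟩
      obtain ⟨w, -, rfl⟩ := mem_QE.1 hg
      obtain ⟨a, rfl⟩ := Submodule.mem_span_singleton.1 h
      exact (smul_pt_eq_iff _ hx0 hx hx0 hx).2 ⟨1, by
        rw [one_smul, eE_val, map_smul, eich_apply_self]⟩
  rw [h2, Nat.card_unique (α := ({pt u hu0 hu} : Set (singPts Q)))] at h1
  intro hd
  exact (Fact.out : p.Prime).one_lt.ne' (Nat.dvd_one.1 ((h1.dvd_iff (dvd_refl p)).1 hd))

theorem index_stabE_span (hQ : Q.polarBilin.Nondegenerate) (h3 : 3 ≤ finrank F V) {u : V}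
    (hu : Q u = 0) (hu0 : u ≠ 0) :
    (stabE Q (Submodule.span F {u})).index = Nat.card (singPts Q) := by
  have := E_isPretransitive hQ h3
  rw [stabE_span_eq hu0 hu, MulAction.index_stabilizer_of_transitive]

theorem isCoatom_stabE_span (hQ : Q.polarBilin.Nondegenerate) (h5 : 5 ≤ finrank F V) {u : V}
    (hu : Q u = 0) (hu0 : u ≠ 0) : IsCoatom (stabE Q (Submodule.span F {u})) := by
  have := E_isPreprimitive hQ h5
  obtain ⟨v, hv, huv⟩ := exists_hyp_partner' hQ hu hu0
  have hp : IsHypPair Q u v := ⟨hu, hv, huv⟩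
  have : Nontrivial (singPts Q) := ⟨pt v hp.symm.ne_zero hv, pt u hu0 hu, fun e =>
    hp.not_mem_span (Submodule.mem_span_singleton.2 ((pt_eq_pt_iff _ _ _ _).1 e))⟩
  rw [stabE_span_eq hu0 hu]
  exact MulAction.IsPreprimitive.isCoatom_stabilizer_of_isPreprimitive _ _

end CL.AutO
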