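import Cfsg.Agent.AutO.Parab
import Cfsg.Agent.AutO.Gam
import Cfsg.Agent.QuadF.Std

/-!
# Automorphisms of `PΩ` permuting the Eichler groups
-/

set_option autoImplicit false

namespace CL.AutO

open QuadraticMap Module CL.Orth

variable {F V : Type*} [Field F] [AddCommGroup V] [Module F V] {Q : QuadraticForm F V}

/-- Image of the Eichler group in `PΩ`. -/
def PQ (Q : QuadraticForm F V) (u : V) : Subgroup (PE Q) :=
  (QE Q u).map (QuotientGroup.mk' (Subgroup.center (E Q)))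

/-- Image of a subspace stabiliser in `PΩ`. -/
def PStab (Q : QuadraticForm F V) (X : Submodule F V) : Subgroup (PE Q) :=
  (stabE Q X).map (QuotientGroup.mk' (Subgroup.center (E Q)))

theorem mem_PQ {u : V} {x : PE Q} :
    x ∈ PQ Q u ↔ ∃ w, polar Q u w = 0 ∧ x = QuotientGroup.mk (eE Q u w) := by
  constructor
  · rintro ⟨g, hg, rfl⟩
    obtain ⟨w, hw, rfl⟩ := mem_QE.1 hg
    exact ⟨w, hw, rfl⟩
  · rintro ⟨w, -, rfl⟩
    exact ⟨_, eE_mem_QE u w, rfl⟩

theorem mk_eE_mem_PQ (u w : V) : (QuotientGroup.mk (eE Q u w) : PE Q) ∈ PQ Q u :=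
  ⟨_, eE_mem_QE u w, rfl⟩

theorem PQ_smul {a : F} (ha : a ≠ 0) (u : V) : PQ Q (a • u) = PQ Q u := by
  rw [PQ, QE_smul ha, PQ]

theorem conj_mem_PQ (g : E Q) {u : V} {x : PE Q} (hx : x ∈ PQ Q u) :
    (g : PE Q) * x * (g : PE Q)⁻¹ ∈ PQ Q (g.1.1 u) := by
  obtain ⟨k, hk, rfl⟩ := hx
  exact ⟨g * k * g⁻¹, (conj_mem_QE_iff g k u).2 hk, rfl⟩

theorem conj_mem_PQ_iff (g : E Q) (u : V) (x : PE Q) :
    (g : PE Q) * x * (g : PE Q)⁻¹ ∈ PQ Q (g.1.1 u) ↔ x ∈ PQ Q u := by
  refine ⟨fun h => ?_, conj_mem_PQ g⟩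
  have := conj_mem_PQ g⁻¹ h
  rw [show (g⁻¹).1.1 (g.1.1 u) = u from O_inv_apply_apply g.1 u] at this
  simpa [mul_assoc] using this

theorem eE_pow_char (p : ℕ) [CharP F p] (u w : V) : eE Q u w ^ p = 1 := by
  rw [eE_pow, ← Nat.cast_smul_eq_nsmul F, CharP.cast_eq_zero, zero_smul, eE_zero]

/-- `α` carries the Eichler group of `u` to that of `u'`. -/
structure Rel (α : MulAut (PE Q)) (u u' : V) : Prop where
  sing : Q u = 0
  ne : u ≠ 0
  sing' : Q u' = 0
  ne' : u' ≠ 0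
  iff : ∀ x, α x ∈ PQ Q u' ↔ x ∈ PQ Q u

theorem Rel.symm {α : MulAut (PE Q)} {u u' : V} (h : Rel α u u') : Rel α⁻¹ u' u :=
  ⟨h.sing', h.ne', h.sing, h.ne, fun x => by rw [← h.iff, MulAut.apply_inv_self]⟩

theorem Rel.trans {α β : MulAut (PE Q)} {u u' u'' : V} (h : Rel α u u') (h' : Rel β u' u'') :
    Rel (β * α) u u'' :=
  ⟨h.sing, h.ne, h'.sing', h'.ne', fun x => by rw [MulAut.mul_apply, h'.iff, h.iff]⟩

theorem Rel.smul_left {α : MulAut (PE Q)} {u u' : V} (h : Rel α u u') {a : F} (ha : a ≠ 0) :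
    Rel α (a • u) u' :=
  ⟨by rw [Q_smul, h.sing, mul_zero], smul_ne_zero ha h.ne, h.sing', h.ne', fun x => by
    rw [PQ_smul ha, h.iff]⟩

theorem Rel.smul_right {α : MulAut (PE Q)} {u u' : V} (h : Rel α u u') {a : F} (ha : a ≠ 0) :
    Rel α u (a • u') :=
  ⟨h.sing, h.ne, by rw [Q_smul, h.sing', mul_zero], smul_ne_zero ha h.ne', fun x => by
    rw [PQ_smul ha, h.iff]⟩

theorem Rel.conj {α : MulAut (PE Q)} {u u' : V} (h : Rel α u u') {g g' : E Q}
    (hg : α (g : PE Q) = (g' : PE Q)) : Rel α (g.1.1 u) (g'.1.1 u') := by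
  refine ⟨by rw [O_map, h.sing], (O_apply_eq_zero_iff _ _).not.2 h.ne, by rw [O_map, h.sing'],
    (O_apply_eq_zero_iff _ _).not.2 h.ne', fun x => ?_⟩
  obtain ⟨y, rfl⟩ : ∃ y, x = (g : PE Q) * y * (g : PE Q)⁻¹ := ⟨(g : PE Q)⁻¹ * x * g, by group⟩
  rw [conj_mem_PQ_iff, map_mul, map_mul, map_inv, hg, conj_mem_PQ_iff, h.iff]

theorem rel_Phi (γ : Gam Q) {u : V} (hu : Q u = 0) (hu0 : u ≠ 0) : Rel (Phi Q γ) u (γ.1.1 u) := by
  have key : ∀ (γ : Gam Q) (u : V) (x : PE Q), x ∈ PQ Q u → Phi Q γ x ∈ PQ Q (γ.1.1 u) := by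
    intro γ u x hx
    obtain ⟨w, -, rfl⟩ := mem_PQ.1 hx
    rw [Phi_eE]
    exact mk_eE_mem_PQ _ _
  refine ⟨hu, hu0, (Gam.map_Q_eq_zero_iff γ u).2 hu, (Gam.map_eq_zero_iff γ u).not.2 hu0,
    fun x => ⟨fun h => ?_, key γ u x⟩⟩
  have := key γ⁻¹ _ _ h
  rwa [Gam.inv_apply, map_inv, MulAut.inv_apply_self] at this

variable [FiniteDimensional F V]

theorem Rel.total (hQ : Q.polarBilin.Nondegenerate) (h3 : 3 ≤ finrank F V) {α : MulAut (PE Q)}
    {e e' : V} (h : Rel α e e') {u : V} (hu : Q u = 0) (hu0 : u ≠ 0) : ∃ u', Rel α u u' := by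
  obtain ⟨g, hg, c, hc, e1⟩ := exists_E_apply_eq_smul hQ h3 h.sing h.ne hu hu0
  obtain ⟨g', hg'⟩ := QuotientGroup.mk_surjective (α ((⟨g, hg⟩ : E Q) : PE Q))
  have := (h.conj hg'.symm).smul_left (inv_ne_zero hc)
  rw [e1, smul_smul, inv_mul_cancel₀ hc, one_smul] at this
  exact ⟨_, this⟩

theorem coprime_card_center [Finite F] (hQ : Q.polarBilin.Nondegenerate) (h3 : 3 ≤ finrank F V)
    (p : ℕ) [hp : Fact p.Prime] [CharP F p] :
    (Nat.card (Subgroup.center (E Q))).Coprime p := by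
  obtain ⟨u, hu0, hu⟩ := QuadF.exists_singular Q h3
  by_cases h : (2 : F) = 0 ∨ negO Q ∉ E Q
  · rw [center_E_eq_bot hQ h3 hu hu0 h]
    simp
  · push Not at h
    rw [card_center_E_of_mem hQ h3 hu hu0 h.1 h.2, Nat.coprime_primes Nat.prime_two hp.out]
    rintro rfl
    exact h.1 (by simpa using CharP.cast_eq_zero F 2)

theorem eq_of_mk_eq [Finite F] (hQ : Q.polarBilin.Nondegenerate) (h3 : 3 ≤ finrank F V)
    (p : ℕ) [hp : Fact p.Prime] [CharP F p] {a b : E Q} (ha : a ^ p = 1) (hb : b ^ p = 1)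
    (h : (a : PE Q) = b) : a = b := by
  have hz : a⁻¹ * b ∈ Subgroup.center (E Q) := QuotientGroup.eq.1 h
  have hc : Commute a (a⁻¹ * b) := Subgroup.mem_center_iff.1 hz a
  have h1 : (a⁻¹ * b) ^ p = 1 := by
    have := hc.mul_pow p
    rw [mul_inv_cancel_left, ha, hb, one_mul] at this
    exact this.symm
  have h2 : (a⁻¹ * b) ^ Nat.card (Subgroup.center (E Q)) = 1 :=
    congrArg Subtype.val (pow_card_eq_one' (x := (⟨_, hz⟩ : Subgroup.center (E Q))))
  exact inv_mul_eq_one.1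
    ((pow_eq_one_iff_of_coprime (coprime_card_center hQ h3 p)).1 ⟨h2, h1⟩)

theorem eE_eq_of_mk_eq [Finite F] (hQ : Q.polarBilin.Nondegenerate) (h3 : 3 ≤ finrank F V)
    {u w u' w' : V} (h : (eE Q u w : PE Q) = eE Q u' w') : eE Q u w = eE Q u' w' := by
  obtain ⟨p, hp⟩ := CharP.exists F
  have : Fact p.Prime := ⟨CharP.char_is_prime F p⟩
  exact eq_of_mk_eq hQ h3 p (eE_pow_char p _ _) (eE_pow_char p _ _) h

theorem mem_span_of_PQ_le [Finite F] (hQ : Q.polarBilin.Nondegenerate) (h3 : 3 ≤ finrank F V)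
    {u v : V} (hu : Q u = 0) (hu0 : u ≠ 0) (hv : Q v = 0) (h : PQ Q u ≤ PQ Q v) :
    v ∈ Submodule.span F {u} := by
  refine mem_span_of_fixed hQ h3 hu hu0 hv fun w _ => ⟨1, ?_⟩
  obtain ⟨w', -, e⟩ := mem_PQ.1 (h (mk_eE_mem_PQ u w))
  rw [← eE_val, eE_eq_of_mk_eq hQ h3 e, eE_val, eich_apply_self, one_smul]

theorem Rel.unique [Finite F] (hQ : Q.polarBilin.Nondegenerate) (h3 : 3 ≤ finrank F V)
    {α : MulAut (PE Q)} {u v v' : V} (h : Rel α u v) (h' : Rel α u v') :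
    v' ∈ Submodule.span F {v} := by
  refine mem_span_of_PQ_le hQ h3 h.sing' h.ne' h'.sing' fun x hx => ?_
  obtain ⟨y, rfl⟩ := α.surjective x
  rwa [h'.iff, ← h.iff]

theorem polar_eq_zero_iff_PQ [Finite F] (hQ : Q.polarBilin.Nondegenerate) (h3 : 3 ≤ finrank F V)
    {u v : V} (hu : Q u = 0) (hu0 : u ≠ 0) (hv : Q v = 0) (hv0 : v ≠ 0) :
    polar Q u v = 0 ↔ ∃ x, x ≠ 1 ∧ x ∈ PQ Q u ∧ x ∈ PQ Q v := by
  have hne : ∀ w, polar Q u w = 0 → w ∉ Submodule.span F {u} → (eE Q u w : PE Q) ≠ 1 := by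
    intro w hw hwu e
    have : (eE Q u w : PE Q) = eE Q u 0 := by rw [e, eE_zero]; rfl
    have := eE_eq_of_mk_eq hQ h3 this
    rw [eE_zero, eE_eq_one_iff hQ hu hu0 hw] at this
    exact hwu this
  constructor
  · intro h
    by_cases hvu : v ∈ Submodule.span F {u}
    · obtain ⟨a, rfl⟩ := Submodule.mem_span_singleton.1 hvu
      have ha : a ≠ 0 := by rintro rfl; exact hv0 (zero_smul _ _)
      obtain ⟨w, hw1, hw2⟩ := exists_nonsingular_orth hQ h3 hu hu0
      refine ⟨_, hne w hw1 fun hw => ?_, mk_eE_mem_PQ u w, by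
        rw [PQ_smul ha]; exact mk_eE_mem_PQ u w⟩
      obtain ⟨c, rfl⟩ := Submodule.mem_span_singleton.1 hw
      exact hw2 (by qsimp [hu]; ring)
    · refine ⟨_, hne v h hvu, mk_eE_mem_PQ u v, ?_⟩
      have : eE Q u v = eE Q v (-u) := Subtype.ext (eich_swap hv hu (by rw [polar_comm, h]))
      rw [this]
      exact mk_eE_mem_PQ _ _
  · rintro ⟨x, hx1, hxu, hxv⟩
    obtain ⟨w, hw, rfl⟩ := mem_PQ.1 hxu
    obtain ⟨w', -, e⟩ := mem_PQ.1 hxv
    by_contra huv
    have h1 : (eich Q u w).1 v = v := by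
      rw [← eE_val, eE_eq_of_mk_eq hQ h3 e, eE_val, eich_apply_self]
    rw [eich_apply hu hw] at h1
    have h2 : w ∈ Submodule.span F {u} := by
      rw [← Submodule.smul_mem_iff _ huv]
      exact Submodule.mem_span_singleton.2 ⟨polar Q w v + Q w * polar Q u v, by
        linear_combination (norm := module) -h1⟩
    apply hx1
    rw [(eE_eq_one_iff hQ hu hu0 hw).2 h2]
    rfl

theorem Rel.perp [Finite F] (hQ : Q.polarBilin.Nondegenerate) (h3 : 3 ≤ finrank F V)
    {α : MulAut (PE Q)} {u u' v v' : V} (h : Rel α u u') (h' : Rel α v v') :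
    polar Q u' v' = 0 ↔ polar Q u v = 0 := by
  rw [polar_eq_zero_iff_PQ hQ h3 h.sing h.ne h'.sing h'.ne,
    polar_eq_zero_iff_PQ hQ h3 h.sing' h.ne' h'.sing' h'.ne']
  constructor
  · rintro ⟨x, h1, h2, h3⟩
    obtain ⟨y, rfl⟩ := α.surjective x
    exact ⟨y, by simpa using h1, (h.iff y).1 h2, (h'.iff y).1 h3⟩
  · rintro ⟨x, h1, h2, h3⟩
    exact ⟨α x, by simpa using h1, (h.iff x).2 h2, (h'.iff x).2 h3⟩

/-- An automorphism fixing every Eichler group is trivial. -/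
theorem eq_one_of_forall_rel [Finite F] (hQ : Q.polarBilin.Nondegenerate) (h3 : 3 ≤ finrank F V)
    {β : MulAut (PE Q)} (h : ∀ u, Q u = 0 → u ≠ 0 → Rel β u u) : β = 1 := by
  obtain ⟨e, he0, he⟩ := QuadF.exists_singular Q h3
  refine MulEquiv.ext fun x => ?_
  obtain ⟨g, rfl⟩ := QuotientGroup.mk_surjective x
  obtain ⟨g', hg'⟩ := QuotientGroup.mk_surjective (β (g : PE Q))
  rw [← hg', MulAut.one_apply, eq_comm, QuotientGroup.eq, mem_center_E_iff hQ h3 he he0]
  refine eq_one_or_negO_of_fix_points hQ h3 he he0 fun u hu hu0 => ?_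
  have h1 := (h u hu hu0).conj hg'.symm
  have h2 := h _ h1.sing h1.ne
  obtain ⟨c, hc⟩ := Submodule.mem_span_singleton.1 (h2.unique hQ h3 h1)
  refine ⟨c, ?_⟩
  change (g.1⁻¹).1 (g'.1.1 u) = _
  rw [← hc, map_smul, O_inv_apply_apply]

/-- Rigidity: an automorphism centralising one Eichler group and normalising an opposite one is
trivial. -/
theorem eq_one_of_rel [Finite F] (hQ : Q.polarBilin.Nondegenerate) (h3 : 3 ≤ finrank F V)
    {β : MulAut (PE Q)} {e f : V} (hef : IsHypPair Q e f)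
    (he : ∀ w, polar Q e w = 0 → β (eE Q e w : PE Q) = eE Q e w) (hf : Rel β f f) : β = 1 := by
  have hee : Rel β e e := by
    refine ⟨hef.1, hef.ne_zero, hef.1, hef.ne_zero, fun x => ⟨fun h => ?_, fun h => ?_⟩⟩
    · obtain ⟨w, hw, e1⟩ := mem_PQ.1 h
      rw [← he w hw] at e1
      rw [β.injective e1]
      exact mk_eE_mem_PQ _ _
    · obtain ⟨w, hw, rfl⟩ := mem_PQ.1 h
      rw [he w hw]
      exact mk_eE_mem_PQ _ _
  have hz : ∀ z, Q z = 0 → polar Q e z ≠ 0 → Rel β z z := by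
    intro z hz hez
    obtain ⟨w, hw, e1⟩ := exists_eich_apply_eq_smul hef.1 hef.2 hz
      (by rw [hef.3]; exact one_ne_zero) hez
    have h1 := hf.conj (he w hw)
    rw [eE_val, e1] at h1
    have hc : polar Q e f / polar Q e z ≠ 0 := div_ne_zero (by rw [hef.3]; exact one_ne_zero) hez
    have h2 := (h1.smul_left (inv_ne_zero hc)).smul_right (inv_ne_zero hc)
    rwa [smul_smul, inv_mul_cancel₀ hc, one_smul] at h2
  refine eq_one_of_forall_rel hQ h3 fun u hu hu0 => ?_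
  by_cases heu : polar Q e u ≠ 0
  · exact hz u hu heu
  push Not at heu
  by_cases hue : e ∈ Submodule.span F {u}
  · obtain ⟨a, ha⟩ := Submodule.mem_span_singleton.1 hue
    have ha0 : a ≠ 0 := by rintro rfl; exact hef.ne_zero (by rw [← ha, zero_smul])
    have h2 := (hee.smul_left (inv_ne_zero ha0)).smul_right (inv_ne_zero ha0)
    rwa [← ha, smul_smul, inv_mul_cancel₀ ha0, one_smul] at h2
  obtain ⟨u', hu'⟩ := hee.total hQ h3 hu hu0
  obtain ⟨v, hv, hev, hvu⟩ := exists_hyp_partner hQ (S := Submodule.span F {u}) hef.1 hue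
    (fun s hs => by
      obtain ⟨c, rfl⟩ := Submodule.mem_span_singleton.1 hs
      rw [polar_smul_left', polar_comm, heu, mul_zero])
  have huv : polar Q u v = 0 := hvu u (Submodule.mem_span_singleton_self u)
  have h1 : polar Q u' e = 0 := (hu'.perp hQ h3 hee).2 (by rw [polar_comm, heu])
  have h2 : polar Q u' v = 0 :=
    (hu'.perp hQ h3 (hz v hv (by rw [hev]; exact one_ne_zero))).2 huv
  have h4 : u' ∈ Submodule.span F {u} := by
    rw [← perp_perp hQ (Submodule.span F {u})]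
    refine mem_perp.2 fun t ht => ?_
    have ht' : polar Q u t = 0 := mem_perp.1 ht u (Submodule.mem_span_singleton_self u)
    have hs : polar Q e (t + (1 - polar Q e t) • v) = 1 := by qsimp [hev]; ring
    have hus : polar Q u (t + (1 - polar Q e t) • v) = 0 := by qsimp [ht', huv]; ring
    have hus' : polar Q u' (t + (1 - polar Q e t) • v) = polar Q t u' := by
      qsimp [h2, polar_comm Q t u']; ring
    generalize t + (1 - polar Q e t) • v = s at hs hus hus'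
    have h5 := (hu'.perp hQ h3 (hz (s - Q s • e)
      (by qsimp [hef.1, polar_comm Q s e, hs]; ring)
      (by qsimp [hs, hef.1]; simp))).2 (by qsimp [hus, polar_comm Q u e, heu]; ring)
    qsimp [h1, hus'] at h5
    linear_combination h5
  obtain ⟨c, rfl⟩ := Submodule.mem_span_singleton.1 h4
  have hc : c ≠ 0 := by rintro rfl; exact hu'.ne' (zero_smul _ _)
  have h2 := hu'.smul_right (inv_ne_zero hc)
  rwa [smul_smul, inv_mul_cancel₀ hc, one_smul] at h2

theorem indexTwo_of_finite [Finite F] (hQ : Q.polarBilin.Nondegenerate) (h5 : 5 ≤ finrank F V) :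
    IndexTwo Q := by
  obtain ⟨X, hX, hd⟩ := QuadF.exists_ts_of_finite hQ (k := 2) h5
  obtain ⟨a, ha, ha0⟩ := exists_mem_notMem_of_finrank_lt (X := X) (Y := ⊥) (by simp [hd])
  obtain ⟨b, hb, hba⟩ := exists_mem_notMem_of_finrank_lt (X := X) (Y := Submodule.span F {a})
    (by have := finrank_span_singleton_le (F := F) a; omega)
  exact ⟨a, b, hX a ha, hX b hb, QuadF.polar_eq_zero_of_ts hX ha hb, by simpa using ha0, hba⟩

/-- The kernel of the action of the semilinear similarities consists of the scalars. -/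
theorem ker_Phi [Finite F] (hQ : Q.polarBilin.Nondegenerate) (h5 : 5 ≤ finrank F V) :
    (Phi Q).ker = (scalarGam Q).range := by
  refine le_antisymm (fun γ hγ => ?_) ?_
  swap
  · rintro _ ⟨a, rfl⟩
    exact Phi_scalarGam a
  have h3 : 3 ≤ finrank F V := by omega
  have hfix : ∀ u, Q u = 0 → ∃ c : F, c • u = γ.1.1 u := by
    intro u hu
    by_cases hu0 : u = 0
    · exact ⟨0, by rw [hu0, Gam.map_zero, smul_zero]⟩
    have h1 := rel_Phi γ hu hu0
    rw [MonoidHom.mem_ker.1 hγ] at h1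
    exact Submodule.mem_span_singleton.1
      ((⟨hu, hu0, hu, hu0, fun _ => Iff.rfl⟩ : Rel 1 u u).unique hQ h3 h1)
  have hI := indexTwo_of_finite hQ h5
  -- the scalar is the same on perpendicular independent singular vectors
  have hpair : ∀ a b (s t : F) (l m : F), Q a = 0 → Q b = 0 → polar Q a b = 0 → a ≠ 0 →
      b ∉ Submodule.span F {a} → l • a = γ.1.1 a → m • b = γ.1.1 b →
      ∃ n : F, n * s = γ.1.2 s * l ∧ n * t = γ.1.2 t * m := by
    intro a b s t l m ha hb hab ha0 hba hl hm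
    obtain ⟨n, hn⟩ := hfix (s • a + t • b) (by qsimp [ha, hb, hab]; ring)
    rw [Gam.map_add, Gam.map_smul, Gam.map_smul, ← hl, ← hm] at hn
    have h1 : (n * t - γ.1.2 t * m) • b = (γ.1.2 s * l - n * s) • a := by
      linear_combination (norm := module) hn
    have h2 : n * t - γ.1.2 t * m = 0 := by
      by_contra h
      exact hba ((Submodule.smul_mem_iff _ h).1 (h1 ▸ Submodule.smul_mem _ _
        (Submodule.mem_span_singleton_self a)))
    rw [h2, zero_smul, eq_comm, smul_eq_zero, or_iff_left ha0] at h1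
    exact ⟨n, by linear_combination -h1, by linear_combination h2⟩
  obtain ⟨a, b, ha, hb, hab, ha0, hba⟩ := id hI
  obtain ⟨l, hl⟩ := hfix a ha
  have hl0 : l ≠ 0 := by
    rintro rfl
    rw [zero_smul, eq_comm, Gam.map_eq_zero_iff] at hl
    exact ha0 hl
  have hσ : ∀ t, γ.1.2 t = t := by
    intro t
    obtain ⟨m, hm⟩ := hfix b hb
    obtain ⟨n, h1, h2⟩ := hpair a b 1 1 l m ha hb hab ha0 hba hl hm
    obtain ⟨n', h3, h4⟩ := hpair a b 1 t l m ha hb hab ha0 hba hl hm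
    simp only [map_one, mul_one, one_mul] at h1 h2 h3 h4
    apply mul_right_cancel₀ hl0
    rw [h3, ← h2, h1] at h4
    linear_combination -h4
  have hperp : ∀ x y (l' : F), Q x = 0 → Q y = 0 → polar Q x y = 0 → x ≠ 0 →
      l' • x = γ.1.1 x → l' • y = γ.1.1 y := by
    intro x y l' hx hy hxy hx0 h
    by_cases hyx : y ∈ Submodule.span F {x}
    · obtain ⟨c, rfl⟩ := Submodule.mem_span_singleton.1 hyx
      rw [Gam.map_smul, hσ, ← h, smul_comm]
    · obtain ⟨m, hm⟩ := hfix y hy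
      obtain ⟨n, h1, h2⟩ := hpair x y 1 1 l' m hx hy hxy hx0 hyx h hm
      simp only [map_one, mul_one, one_mul] at h1 h2
      rw [← h1, h2, hm]
  have hall : ∀ y, Q y = 0 → l • y = γ.1.1 y := by
    intro y hy
    by_cases hay : polar Q a y = 0
    · exact hperp a y l ha hy hay ha0 hl
    · obtain ⟨x, z, hxz, h1, h2, -, -⟩ := hI.exists_hypPair_orth hQ (isHypPair_inv_smul ha hy hay)
      rw [polar_smul_left', mul_eq_zero, or_iff_right (inv_ne_zero hay)] at h2
      exact hperp x y l hxz.1 hy (by rw [polar_comm, h2]) hxz.ne_zero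
        (hperp a x l ha hxz.1 h1 ha0 hl)
  refine ⟨Units.mk0 l hl0, Subtype.ext (Prod.ext (Equiv.ext fun v => ?_)
    (RingEquiv.ext fun t => (hσ t).symm))⟩
  change l • v = γ.1.1 v
  have hv : v ∈ Submodule.span F {v | Q v = 0} := by
    rw [QuadF.span_singular_eq_top hQ ha0 ha]; trivial
  induction hv using Submodule.span_induction with
  | mem x hx => exact hall x hx
  | zero => rw [smul_zero, Gam.map_zero]
  | add x y _ _ hx hy => rw [smul_add, Gam.map_add, hx, hy]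
  | smul c x _ hx => rw [Gam.map_smul, hσ, ← hx, smul_comm]

theorem card_range_Phi [Finite F] (hQ : Q.polarBilin.Nondegenerate) (h5 : 5 ≤ finrank F V) :
    (Nat.card F - 1) * Nat.card (Phi Q).range = Nat.card (Gam Q) := by
  obtain ⟨u, hu0, -⟩ := QuadF.exists_singular Q (by omega)
  rw [← (Phi Q).ker.card_mul_index, Subgroup.index_ker, ker_Phi hQ h5, ← Nat.card_units,
    Nat.card_congr (MonoidHom.ofInjective (scalarGam_injective hu0)).toEquiv]

end CL.AutO
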