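import Cfsg.Agent.Base
import Cfsg.Agent.Tri.Basic
import Cfsg.Agent.AutO.Point
import Cfsg.Agent.QuadF.Std

/-!
# The triality automorphism does not preserve Eichler transformations
-/

set_option autoImplicit false

namespace CL.Trial.SymComp

open QuadraticMap Module CL.Orth CL.AutO

variable {F V : Type*} [Field F] [AddCommGroup V] [Module F V] {Q : QuadraticForm F V}
  (C : SymComp Q)

theorem lin_right (x y z : V) :
    C.mul x (C.mul y z) + C.mul z (C.mul y x) = polar Q x z • y := by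
  have h := C.mul_mul' (x + z) y
  simp only [map_add, LinearMap.add_apply, C.mul_mul', Q_add, add_smul] at h
  linear_combination (norm := module) h

theorem eq_zero_of_mul_right {v x : V} (hv : Q v ≠ 0) (h : C.mul x v = 0) : x = 0 := by
  have := C.mul_mul' v x
  rw [h, map_zero] at this
  exact (smul_eq_zero.1 this.symm).resolve_left hv

theorem eq_zero_of_mul_left {v x : V} (hv : Q v ≠ 0) (h : C.mul v x = 0) : x = 0 := by
  have := C.mul_mul v x
  rw [h, map_zero, LinearMap.zero_apply] at this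
  exact (smul_eq_zero.1 this.symm).resolve_left hv

variable [FiniteDimensional F V]

/-- If `(z w) z' = 0` for all `w`, then `z'` is a multiple of `z`. -/
theorem mem_span_of_mul_mul (hQ : Q.polarBilin.Nondegenerate) (h5 : 5 ≤ finrank F V) {z z' : V}
    (hz : z ≠ 0) (h : ∀ w, C.mul (C.mul z w) z' = 0) : z' ∈ Submodule.span F {z} := by
  by_contra hz'
  obtain ⟨u, hu1, hu2⟩ := exists_polar_eq_one_span hQ hz'
  have hu3 : polar Q z u = 0 := hu1 z rfl
  obtain ⟨v, hv1, hv2⟩ := exists_ne_zero_of_lt hQ (S := perp Q (Submodule.span F {z, z'})) (by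
    have h1 := finrank_perp_add hQ (Submodule.span F {z, z'})
    have h2 := finrank_span_pair_le (F := F) z z'
    omega)
  rw [mem_perp_span] at hv1
  have hv3 : polar Q z v = 0 := hv1 z (by simp)
  have hv4 : polar Q z' v = 0 := hv1 z' (by simp)
  have h1 : ∀ w, C.mul z' (C.mul w z) = 0 := fun w => by
    refine C.eq_zero_of_mul_right hv2 ?_
    have e1 := C.lin_left z' (C.mul w z) v
    have e2 := C.lin_right z w v
    rw [hv3, zero_smul, add_eq_zero_iff_eq_neg'] at e2
    rw [hv4, zero_smul, e2, map_neg, LinearMap.neg_apply, h, neg_zero, add_zero] at e1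
    exact e1
  obtain ⟨w, hw⟩ := C.exists_mul_ne_zero' hQ (by omega) hz
  have e1 := C.lin_right z' (C.mul z w) u
  have e2 := C.lin_left z w u
  rw [hu3, zero_smul, add_eq_zero_iff_eq_neg] at e2
  rw [h, map_zero, add_zero, hu2, one_smul, e2, map_neg, h1, neg_zero] at e1
  exact hw e1.symm

variable {C}

theorem Tri.eq_one_or_negO (hQ : Q.polarBilin.Nondegenerate) (h5 : 5 ≤ finrank F V)
    (hI : IndexTwo Q) {g₁ g₂ : O Q} (h : C.Tri 1 g₁ g₂) : g₁ = 1 ∨ g₁ = negO Q := by
  obtain ⟨u, -, hu, -, -, hu0, -⟩ := id hI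
  refine eq_one_or_negO_of_fix_points hQ (by omega) hu hu0 fun z hz hz0 => ?_
  have h1 := C.mem_span_of_mul_mul hQ h5 (z' := g₁.1 z) hz0 fun w => by
    have := ((h.cyc hQ).cyc hQ) (C.mul z w) z
    rw [O_one_apply] at this
    rw [← this, C.mul_mul, hz, zero_smul, map_zero]
  obtain ⟨c, hc⟩ := Submodule.mem_span_singleton.1 h1
  exact ⟨c, hc.symm⟩

theorem Tri.unique (hQ : Q.polarBilin.Nondegenerate) (h5 : 5 ≤ finrank F V)
    (hI : IndexTwo Q) {g g₁ g₂ g₁' g₂' : O Q} (h : C.Tri g g₁ g₂) (h' : C.Tri g g₁' g₂') :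
    g₁' = g₁ ∨ g₁' = g₁ * negO Q := by
  have h1 : ((g, g₁, g₂) : O Q × O Q × O Q) ∈ C.triGrp := h
  have h2 : ((g, g₁', g₂') : O Q × O Q × O Q) ∈ C.triGrp := h'
  have h3 : C.Tri (g⁻¹ * g) (g₁⁻¹ * g₁') (g₂⁻¹ * g₂') :=
    C.triGrp.mul_mem (C.triGrp.inv_mem h1) h2
  rw [inv_mul_cancel] at h3
  rcases h3.eq_one_or_negO hQ h5 hI with h4 | h4
  · left; exact (inv_mul_eq_one.1 h4).symm
  · right; rw [← h4, mul_inv_cancel_left]

variable (C)

theorem two_mul_finrank_range_flip (hQ : Q.polarBilin.Nondegenerate) {u : V} (hu : Q u = 0)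
    (hu0 : u ≠ 0) : 2 * finrank F (LinearMap.range (C.mul.flip u)) = finrank F V := by
  have h1 := LinearMap.finrank_range_add_finrank_ker (C.mul.flip u)
  have h2 := two_mul_finrank_le hQ (S := LinearMap.range (C.mul.flip u)) (by
    rintro _ ⟨x, rfl⟩
    rw [LinearMap.flip_apply, C.Q_mul, hu, mul_zero])
  have h3 := two_mul_finrank_le hQ (S := LinearMap.ker (C.mul.flip u)) (fun x hx => by
    by_contra hx'
    exact hu0 (C.eq_zero_of_mul_left hx' hx))
  omega

theorem two_mul_finrank_range (hQ : Q.polarBilin.Nondegenerate) {u : V} (hu : Q u = 0)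
    (hu0 : u ≠ 0) : 2 * finrank F (LinearMap.range (C.mul u)) = finrank F V := by
  have h1 := LinearMap.finrank_range_add_finrank_ker (C.mul u)
  have h2 := two_mul_finrank_le hQ (S := LinearMap.range (C.mul u)) (by
    rintro _ ⟨x, rfl⟩
    rw [C.Q_mul, hu, zero_mul])
  have h3 := two_mul_finrank_le hQ (S := LinearMap.ker (C.mul u)) (fun x hx => by
    by_contra hx'
    exact hu0 (C.eq_zero_of_mul_right hx' hx))
  omega

omit [FiniteDimensional F V] in
theorem eich_sub_mem (u w x : V) : (eich Q u w).1 x - x ∈ Submodule.span F {u, w} := by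
  by_cases h : Q u = 0 ∧ polar Q u w = 0
  · rw [eich_apply h.1 h.2, Submodule.mem_span_pair]
    exact ⟨-polar Q w x - Q w * polar Q u x, polar Q u x, by module⟩
  · rw [eich_of_not h, O_one_apply, sub_self]; exact Submodule.zero_mem _

theorem triality_eE_ne (hQ : Q.polarBilin.Nondegenerate) (h5 : 5 ≤ finrank F V)
    (hI : IndexTwo Q) {u w : V} (hu : Q u = 0) (hu0 : u ≠ 0) (huw : polar Q u w = 0)
    (hw : Q w ≠ 0) (u' w' : V) :
    C.triality hQ h5 hI (QuotientGroup.mk (eE Q u w)) ≠ QuotientGroup.mk (eE Q u' w') := by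
  intro h
  obtain ⟨g₁, g₂, ht⟩ := C.exists_tri hQ h5 hI (eE Q u w)
  rw [ht.triality_apply] at h
  have h1 : Q (w - Q w • u) = Q w := by
    qsimp [hu, polar_comm Q w u, huw]; ring
  have ht' := C.tri_refl_refl _ _ h1 (h1.symm ▸ hw)
  rw [← eich_eq_refl_mul_refl hu huw hw] at ht'
  have h2 := ht'.unique hQ h5 hI ht
  have h3 := (mem_center_E_iff hQ (by omega) hu hu0 _).1 (QuotientGroup.eq.1 h)
  set k := C.rl (w - Q w • u) w h1 (h1.symm ▸ hw) with hk
  let N : V →ₗ[F] V := (C.mul.flip u).comp (C.mul w)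
  have hkN : ∀ x, k.1 x = x - N x := fun x => by
    rw [hk, rl, mkO_apply]
    simp only [N, LinearMap.smul_apply, LinearMap.comp_apply, LinearMap.flip_apply, map_sub,
      map_smul, C.mul_mul, h1, smul_sub, smul_smul, inv_mul_cancel₀ hw, one_smul,
      LinearMap.sub_apply]
  have hN : LinearMap.range N = LinearMap.range (C.mul.flip u) :=
    LinearMap.range_comp_of_range_eq_top _ (LinearMap.range_eq_top.2 fun x =>
      ⟨(Q w)⁻¹ • C.mul x w, by rw [map_smul, C.mul_mul', smul_smul, inv_mul_cancel₀ hw, one_smul]⟩)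
  have h4 := C.two_mul_finrank_range_flip hQ hu hu0
  have h6 := LinearMap.finrank_range_add_finrank_ker N
  have h7 := finrank_span_pair_le (F := F) u' w'
  rw [← hN] at h4
  have hpos : eich Q u' w' ≠ k := fun he => by
    have : LinearMap.range N ≤ Submodule.span F {u', w'} := by
      rintro _ ⟨x, rfl⟩
      have := eich_sub_mem (Q := Q) u' w' x
      rw [he, hkN, sub_sub_cancel_left] at this
      exact neg_mem_iff.1 this
    have := Submodule.finrank_mono this
    omega
  have hneg : eich Q u' w' ≠ k * negO Q := fun he => by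
    by_cases h2 : (2 : F) = 0
    · rw [negO_eq_one h2, mul_one] at he; exact hpos he
    have : LinearMap.ker N ≤ Submodule.span F {u', w'} := by
      intro x hx
      have := eich_sub_mem (Q := Q) u' w' x
      rw [he, O_mul_apply, negO_apply, map_neg, hkN, LinearMap.mem_ker.1 hx, sub_zero,
        show -x - x = (-2 : F) • x by module] at this
      exact (Submodule.smul_mem_iff _ (neg_ne_zero.2 h2)).1 this
    have := Submodule.finrank_mono this
    omega
  have h8 : eich Q u' w' = g₁.1 * (g₁⁻¹ * eE Q u' w' : E Q).1 := by simp [eE_val]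
  rcases h2 with h2 | h2 <;> rcases h3 with h3 | h3 <;> rw [h3, h2] at h8
  · exact hpos (by rw [h8, mul_one])
  · exact hneg h8
  · exact hneg (by rw [h8, mul_one])
  · exact hpos (by rw [h8, mul_assoc, negO_mul_self, mul_one])

end CL.Trial.SymComp

namespace CL.AutO

open QuadraticMap Module CL.Orth

variable {F : Type*} [Field F]

theorem exists_triality' (Q : QuadraticForm F (Fin 4 ⊕ Fin 4 → F))
    (h : ⇑Q = Cfsg.quadFormPlus 4 F) :
    ∃ τ : MulAut (E Q ⧸ Subgroup.center (E Q)), τ ^ 3 = 1 ∧ ∃ u w, ∀ u' w',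
      τ (QuotientGroup.mk (eE Q u w)) ≠ QuotientGroup.mk (eE Q u' w') := by
  obtain rfl : Q = Orth.qPlus 4 F := DFunLike.coe_injective h
  have hQ := qPlus_nondegenerate (F := F) 4
  have h5 : 5 ≤ finrank F (Fin 4 ⊕ Fin 4 → F) := by simp
  have hI : IndexTwo (Orth.qPlus 4 F) := indexTwo_qPlus (by norm_num)
  obtain ⟨u, -, hu, -, -, hu0, -⟩ := id hI
  obtain ⟨w, huw, hw⟩ := exists_nonsingular_orth hQ (by omega) hu hu0
  exact ⟨(Trial.paraOct F).triality hQ h5 hI, Trial.SymComp.triality_pow_three _ _ _ _, u, w,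
    Trial.SymComp.triality_eE_ne _ hQ h5 hI hu hu0 huw hw⟩

/-- The triality automorphism of `PΩ⁺₈(F)`. -/
theorem exists_triality :
    ∃ τ : MulAut (E (QuadF.qPlus 4 F) ⧸ Subgroup.center (E (QuadF.qPlus 4 F))), τ ^ 3 = 1 ∧
      ∃ u w, ∀ u' w', τ (QuotientGroup.mk (eE (QuadF.qPlus 4 F) u w)) ≠
        QuotientGroup.mk (eE (QuadF.qPlus 4 F) u' w') :=
  exists_triality' _ (QuadF.coe_qPlus 4 F)

end CL.AutO
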